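import Groth.Agent.Sga3B.BcPts
import Groth.Agent.Sga3B.DSPts

/-!
# Points of a base change

For `v : V ⟶ S`, `τ : T ⟶ S` and `a : T ⟶ V` with `a ≫ v = τ`, the points of `X` over `τ` are the points
of the base change of `X` along `v` over `a`.
-/

set_option autoImplicit false
universe u

open CategoryTheory MonoidalCategory CartesianMonoidalCategory MonObj GrpObj AlgebraicGeometry Limits

namespace Groth.Agent.RedSub.H654.PtBc

variable {S V : Scheme.{u}} {v : V ⟶ S} {X Y : Over S} {T : Scheme.{u}} {τ : T ⟶ S}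
  {a : T ⟶ V} (h : a ≫ v = τ)

/-- a point of `X` over `τ` as a point of the base change over `a` -/
noncomputable def up (x : Over.mk τ ⟶ X) : Over.mk a ⟶ (Over.pullback v).obj X :=
  Over.homMk (pullback.lift x.left a ((Over.w x).trans h.symm)) (pullback.lift_snd _ _ _)

/-- a point of the base change over `a` as a point of `X` over `τ` -/
noncomputable def dn (y : Over.mk a ⟶ (Over.pullback v).obj X) : Over.mk τ ⟶ X :=
  Over.homMk (y.left ≫ pullback.fst X.hom v) (by
    rw [Category.assoc, pullback.condition, ← Category.assoc]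
    have h1 : y.left ≫ pullback.snd X.hom v = a := Over.w y
    rw [h1, h]
    rfl)

@[reassoc (attr := simp)]
lemma up_left_fst (x : Over.mk τ ⟶ X) : (up h x).left ≫ pullback.fst X.hom v = x.left :=
  pullback.lift_fst _ _ _

@[simp] lemma dn_left (y : Over.mk a ⟶ (Over.pullback v).obj X) :
    (dn h y).left = y.left ≫ pullback.fst X.hom v := rfl

lemma pt_ext {y y' : Over.mk a ⟶ (Over.pullback v).obj X}
    (h1 : y.left ≫ pullback.fst X.hom v = y'.left ≫ pullback.fst X.hom v) : y = y' := by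
  ext1
  apply pullback.hom_ext h1
  exact (Over.w y).trans (Over.w y').symm

@[simp] lemma dn_up (x : Over.mk τ ⟶ X) : dn h (up h x) = x := by
  ext1
  rw [dn_left, up_left_fst]

@[simp] lemma up_dn (y : Over.mk a ⟶ (Over.pullback v).obj X) : up h (dn h y) = y := by
  apply pt_ext
  rw [up_left_fst, dn_left]

lemma up_injective : Function.Injective (up (X := X) h) := fun x x' e => by
  rw [← dn_up h x, e, dn_up]

lemma dn_injective : Function.Injective (dn (X := X) h) := fun x x' e => by
  rw [← up_dn h x, e, up_dn]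

lemma map_left_fst (f : X ⟶ Y) : ((Over.pullback v).map f).left ≫ pullback.fst Y.hom v =
    pullback.fst X.hom v ≫ f.left := pullback.lift_fst _ _ _

lemma up_comp (x : Over.mk τ ⟶ X) (f : X ⟶ Y) :
    up h x ≫ (Over.pullback v).map f = up h (x ≫ f) := by
  apply pt_ext
  rw [up_left_fst, Over.comp_left, Category.assoc, map_left_fst, up_left_fst_assoc]
  rfl

lemma dn_comp (y : Over.mk a ⟶ (Over.pullback v).obj X) (f : X ⟶ Y) :
    dn h (y ≫ (Over.pullback v).map f) = dn h y ≫ f := by
  apply up_injective h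
  rw [up_dn, ← up_comp, up_dn]

/-- naturality in the test object -/
lemma comp_up {T' : Scheme.{u}} {τ' : T' ⟶ S} {a' : T' ⟶ V} (h' : a' ≫ v = τ')
    (k : Over.mk τ' ⟶ Over.mk τ) (k' : Over.mk a' ⟶ Over.mk a) (hk : k.left = k'.left)
    (x : Over.mk τ ⟶ X) : k' ≫ up h x = up h' (k ≫ x) := by
  apply pt_ext
  rw [up_left_fst, Over.comp_left, Category.assoc, up_left_fst, Over.comp_left, hk]

lemma comp_dn {T' : Scheme.{u}} {τ' : T' ⟶ S} {a' : T' ⟶ V} (h' : a' ≫ v = τ')
    (k : Over.mk τ' ⟶ Over.mk τ) (k' : Over.mk a' ⟶ Over.mk a) (hk : k.left = k'.left)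
    (y : Over.mk a ⟶ (Over.pullback v).obj X) : k ≫ dn h y = dn h' (k' ≫ y) := by
  apply up_injective h'
  rw [← comp_up h h' k k' hk, up_dn, up_dn]

lemma up_mul {G : Over S} [GrpObj G] (x y : Over.mk τ ⟶ G) :
    (up h (x * y) : Over.mk a ⟶ Red.bc v G) = (up h x : Over.mk a ⟶ Red.bc v G) * up h y := by
  subst h
  have key : ∀ x : Over.mk (a ≫ v) ⟶ G, (up rfl x : Over.mk a ⟶ Red.bc v G) =
      Groth.Agent.Sga3B.DSPts.bcEquiv v (Over.mk a) G x := by
    intro x
    apply pt_ext
    rw [up_left_fst]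
    exact (Groth.Agent.Sga3B.DSPts.bcEquiv_fst v (Over.mk a) G x).symm
  rw [key, key, key, map_mul]

/-- `up` as a group isomorphism -/
noncomputable def upE (G : Over S) [GrpObj G] : (Over.mk τ ⟶ G) ≃* (Over.mk a ⟶ Red.bc v G) where
  toFun := up h
  invFun := dn h
  left_inv := dn_up h
  right_inv := up_dn h
  map_mul' := up_mul h

@[simp] lemma upE_apply {G : Over S} [GrpObj G] (x : Over.mk τ ⟶ G) : upE h G x = up h x := rfl

@[simp] lemma upE_symm_apply {G : Over S} [GrpObj G] (x : Over.mk a ⟶ Red.bc v G) :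
    (upE h G).symm x = dn h x := rfl

lemma up_one {G : Over S} [GrpObj G] :
    (up h (1 : Over.mk τ ⟶ G) : Over.mk a ⟶ Red.bc v G) = 1 := map_one (upE h G)

lemma dn_mul {G : Over S} [GrpObj G] (x y : Over.mk a ⟶ Red.bc v G) :
    dn h (x * y : Over.mk a ⟶ Red.bc v G) = dn h x * dn h y := map_mul (upE h G).symm x y

lemma dn_one {G : Over S} [GrpObj G] : dn h (1 : Over.mk a ⟶ Red.bc v G) = 1 :=
  map_one (upE h G).symm

/-- the universal point of a base change: a morphism out of `(Over.pullback v).obj T` is determined by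
its values at points -/
lemma hom_ext_up {T₀ : Over S} {Z : Over V} {f g : (Over.pullback v).obj T₀ ⟶ Z}
    (hfg : ∀ (T : Scheme.{u}) (τ : T ⟶ S) (a : T ⟶ V) (h : a ≫ v = τ) (x : Over.mk τ ⟶ T₀),
      up h x ≫ f = up h x ≫ g) : f = g := by
  have h1 := hfg _ _ ((Over.pullback v).obj T₀).hom rfl
    (dn (v := v) (X := T₀) rfl (𝟙 (Over.mk ((Over.pullback v).obj T₀).hom)))
  rw [up_dn] at h1
  exact h1

end Groth.Agent.RedSub.H654.PtBc
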