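import Groth.Agent.RedSub.H654.SchemeChar
import Groth.Agent.RedSub.H654.PtBc

/-!
# The universal property of the character group quotient of a pinned group

Every homomorphism to a commutative group, defined over an arbitrary base change, kills the kernel of
`G ⟶ D_S(N)`.
-/

set_option autoImplicit false
set_option linter.unusedSectionVars false
universe u

open CategoryTheory MonoidalCategory CartesianMonoidalCategory MonObj GrpObj AlgebraicGeometry Limits

namespace Groth.Agent.RedSub.H654.Kill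

open Groth.Agent.Sga3B Groth.Agent.Sga3B.Cell Groth.Agent.Sga3B.PtDescent Groth.Agent.Sga3B.DSPts
open Groth.Agent.Sga3B.GaPts Groth.Agent.Sga3B.PinMod CharTor UnivPt SchemeChar PtBc

variable {idx M : Type} [Fintype idx] [AddCommGroup M] [Module.Free ℤ M]
    [Module.Finite ℤ M] {P : RootPairing idx ℤ M (Module.Dual ℤ M)} {b : P.Base}
    {S : Scheme.{u}}

section aff

variable {G : Over S} [GrpObj G] {j : Red.DS S M ⟶ G} {u : idx → (Red.Ga S ⟶ G)}
  {R : Type u} [CommRing R] {s : Spec (CommRingCat.of R) ⟶ S}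

/-- torus points as an equivalence -/
noncomputable def dPq (s : Spec (CommRingCat.of R) ⟶ S) (N : Type) [AddCommGroup N] (B : Type u)
    [CommRing B] [Algebra R B] : TPt N B ≃ (tB s B ⟶ Red.DS S N) :=
  Equiv.ofBijective (dP s) ⟨dP_injective s, dP_surjective s⟩

lemma dPq_symm_mul {N : Type} [AddCommGroup N] {B : Type u} [CommRing B] [Algebra R B]
    (x y : tB s B ⟶ Red.DS S N) :
    (dPq s N B).symm (x * y) = (dPq s N B).symm x * (dPq s N B).symm y := by
  apply (dPq s N B).injective
  rw [Equiv.apply_symm_apply]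
  have h : ∀ t t' : TPt N B, dPq s N B (t * t') = dPq s N B t * dPq s N B t' := dP_mul s
  rw [h, Equiv.apply_symm_apply, Equiv.apply_symm_apply]

/-- the character of a model given by a global homomorphism -/
noncomputable def chi (m : PinModel P b G j u s) {N : Type} [AddCommGroup N] (q : G ⟶ Red.DS S N)
    [IsMonHom q] (B : Type u) [CommRing B] [Algebra R B] : Pt R m.A B →* TPt N B :=
  MonoidHom.mk' (fun p => (dPq s N B).symm (m.pts B p ≫ q)) (fun p p' => by
    rw [map_mul]
    exact (congrArg (dPq s N B).symm (MonObj.mul_comp _ _ q)).trans (dPq_symm_mul _ _))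

lemma chi_spec (m : PinModel P b G j u s) {N : Type} [AddCommGroup N] (q : G ⟶ Red.DS S N)
    [IsMonHom q] {B : Type u} [CommRing B] [Algebra R B] (p : Pt R m.A B) :
    dP s (chi m q B p) = m.pts B p ≫ q := (dPq s N B).apply_symm_apply _

lemma chi_nat (m : PinModel P b G j u s) {N : Type} [AddCommGroup N] (q : G ⟶ Red.DS S N)
    [IsMonHom q] {B C : Type u} [CommRing B] [Algebra R B] [CommRing C] [Algebra R C]
    (φ : B →ₐ[R] C) (p : Pt R m.A B) : chi m q C (Pt.map φ p) = TPt.map φ (chi m q B p) := by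
  apply dP_injective s
  rw [chi_spec, ← dP_nat, chi_spec, ← m.pts_nat, Category.assoc]

/-- the torus as a commutative functor -/
def torFun (R : Type u) [CommRing R] (N : Type) [AddCommGroup N] : CommFun R where
  H B _ _ := TPt N B
  grp B _ _ := inferInstance
  comm B _ _ x y := mul_comm x y
  map φ := TPt.map φ
  sep {B T} _ _ _ _ _ _ _ t t' h := by
    apply TPt.ext_ch
    intro n
    apply FaithfulSMul.algebraMap_injective B T
    exact congrArg (TPt.ch n) h

lemma chi_cell (m : PinModel P b G j u s) {N : Type} [AddCommGroup N] (q : G ⟶ Red.DS S N)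
    [IsMonHom q] {ν : N →+ M} (hq : j ≫ q = Red.DSmap S ν) {B : Type u} [CommRing B] [Algebra R B]
    (x : idx → B) (t : TPt M B) : chi m q B (m.E.cell x t) = pull ν B t := by
  have h1 := f_cell m.E (H := torFun R N) ⟨fun B _ _ => chi m q B, fun φ g => (chi_nat m q φ g).symm⟩
    x t
  refine h1.trans ?_
  change chi m q B (m.E.i B t) = pull ν B t
  apply dP_injective s
  rw [chi_spec, m.pts_i, Category.assoc, hq]
  exact dP_DSmap s ν t

/-- **Killing, affine form.** -/
theorem kill_aff (m : PinModel P b G j u s) (q : G ⟶ Red.DS S (NN b)) [IsMonHom q]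
    (hq : j ≫ q = Red.DSmap S (nu b)) (K : CommFun R)
    (F : ∀ (B : Type u) [CommRing B] [Algebra R B], (tB s B ⟶ G) →* K.H B)
    (hF : ∀ {B C : Type u} [CommRing B] [Algebra R B] [CommRing C] [Algebra R C] (φ : B →ₐ[R] C)
      (g : tB s B ⟶ G), K.map φ (F B g) = F C (tMap s φ ≫ g))
    {B : Type u} [CommRing B] [Algebra R B] (g : tB s B ⟶ G) (hg : g ≫ q = 1) : F B g = 1 := by
  obtain ⟨p, rfl⟩ := (m.pts B).surjective g
  let F' : CommHom K m.A :=
    { f := fun B _ _ => (F B).comp (m.pts B : Pt R m.A B →* (tB s B ⟶ G))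
      nat := fun {B C} _ _ _ _ φ g => by
        change K.map φ (F B (m.pts B g)) = F C (m.pts C (Pt.map φ g))
        rw [hF, m.pts_nat] }
  refine f_eq_one m.E F' (fun B _ _ => chi m q B) (chi_nat m q) (chi_cell m q hq) p ?_
  apply dP_injective s
  rw [chi_spec, hg, dP_one]

end aff

/-- **Killing.** `G_V` pinned, `q : G_V ⟶ D_V(N)` the universal character; `f : G_W ⟶ H` any
homomorphism to a commutative group.  A point of `G` killed by `q` is killed by `f`. -/
theorem kill {V W : Scheme.{u}} (v : V ⟶ S) (w : W ⟶ S) (G : Over S) [GrpObj G]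
    {j : Red.DS V M ⟶ Red.bc v G} {u : idx → (Red.Ga V ⟶ Red.bc v G)}
    (mod : ∀ (R : Type u) [CommRing R] (s : Spec (CommRingCat.of R) ⟶ V),
      Nonempty (PinModel P b (Red.bc v G) j u s))
    (q : Red.bc v G ⟶ Red.DS V (NN b)) [IsMonHom q] (hq : j ≫ q = Red.DSmap V (nu b))
    (H : Over W) [GrpObj H] (hH : ∀ (X : Over W) (x y : X ⟶ H), x * y = y * x)
    (f : Red.bc w G ⟶ H) [IsMonHom f]
    {T : Scheme.{u}} {τ : T ⟶ S} {a : T ⟶ V} (ha : a ≫ v = τ) {c : T ⟶ W} (hc : c ≫ w = τ)
    (x : Over.mk τ ⟶ G) (hx : (up ha x : Over.mk a ⟶ Red.bc v G) ≫ q = 1) :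
    (up hc x : Over.mk c ⟶ Red.bc w G) ≫ f = 1 := by
  apply AffYoneda.hom_ext
  intro R s g
  rw [MonObj.comp_one]
  -- the data over `Spec R`
  have hs : g.left ≫ c = s := Over.w g
  let a' : Spec R ⟶ V := g.left ≫ a
  let τ' : Spec R ⟶ S := g.left ≫ τ
  have ha' : a' ≫ v = τ' := by rw [Category.assoc, ha]
  have hs' : s ≫ w = τ' := by rw [← hs, Category.assoc, hc]
  let g₀ : Over.mk τ' ⟶ Over.mk τ := Over.homMk g.left rfl
  let ga : Over.mk a' ⟶ Over.mk a := Over.homMk g.left rfl
  let x' : Over.mk τ' ⟶ G := g₀ ≫ x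
  have e1 : g ≫ (up hc x : Over.mk c ⟶ Red.bc w G) = up hs' x' := comp_up hc hs' g₀ g rfl x
  have e2 : ga ≫ (up ha x : Over.mk a ⟶ Red.bc v G) = up ha' x' := comp_up ha ha' g₀ ga rfl x
  have hx' : (up ha' x' : Over.mk a' ⟶ Red.bc v G) ≫ q = 1 := by
    rw [← e2, Category.assoc, hx, MonObj.comp_one]
  obtain ⟨m⟩ := mod R a'
  -- structure morphisms
  have ea : ∀ (B : Type u) [CommRing B] [Algebra R B],
      (Spec.map (CommRingCat.ofHom (algebraMap R B)) ≫ a') ≫ v =
        Spec.map (CommRingCat.ofHom (algebraMap R B)) ≫ τ' := fun B _ _ => by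
    rw [Category.assoc, ha']
  have es : ∀ (B : Type u) [CommRing B] [Algebra R B],
      (Spec.map (CommRingCat.ofHom (algebraMap R B)) ≫ s) ≫ w =
        Spec.map (CommRingCat.ofHom (algebraMap R B)) ≫ τ' := fun B _ _ => by
    rw [Category.assoc, hs']
  have key := kill_aff (R := R) (s := a') m q hq (funOf (R := R) H hH s)
    (fun B _ _ => MonoidHom.mk' (fun y : tB (R := R) a' B ⟶ Red.bc v G =>
      (up (es B) (dn (ea B) y) : tB (R := R) s B ⟶ Red.bc w G) ≫ f) (fun y y' => by
        rw [dn_mul, up_mul, MonObj.mul_comp]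
        rfl))
    (fun {B C} _ _ _ _ φ y => by
      have h0 : (Spec.map (CommRingCat.ofHom (φ : B →+* C)) : Spec (CommRingCat.of C) ⟶ _) ≫
          Spec.map (CommRingCat.ofHom (algebraMap R B)) ≫ τ' =
          Spec.map (CommRingCat.ofHom (algebraMap R C)) ≫ τ' := by
        rw [← Category.assoc, ← Spec.map_comp, ← CommRingCat.ofHom_comp, AlgHom.comp_algebraMap]
      let k : Over.mk (Spec.map (CommRingCat.ofHom (algebraMap R C)) ≫ τ') ⟶
          Over.mk (Spec.map (CommRingCat.ofHom (algebraMap R B)) ≫ τ') :=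
        Over.homMk (Spec.map (CommRingCat.ofHom (φ : B →+* C))) h0
      change tMap (R := R) s φ ≫ (up (es B) (dn (ea B) y) : tB (R := R) s B ⟶ Red.bc w G) ≫ f =
        (up (es C) (dn (ea C) (tMap (R := R) a' φ ≫ y)) : tB (R := R) s C ⟶ Red.bc w G) ≫ f
      rw [← Category.assoc, comp_up (es B) (es C) k (tMap (R := R) s φ) rfl,
        ← comp_dn (ea B) (ea C) k (tMap (R := R) a' φ) rfl])
    (B := R)
  -- evaluate at `B = R`
  have hid : Spec.map (CommRingCat.ofHom (algebraMap R R)) = 𝟙 (Spec R) := by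
    rw [Algebra.algebraMap_self]
    exact Spec.map_id _
  let κa : tB (R := R) a' R ⟶ Over.mk a' := Over.homMk (Spec.map (CommRingCat.ofHom (algebraMap R R))) rfl
  let κs : tB (R := R) s R ⟶ Over.mk s := Over.homMk (Spec.map (CommRingCat.ofHom (algebraMap R R))) rfl
  let κτ : Over.mk (Spec.map (CommRingCat.ofHom (algebraMap R R)) ≫ τ') ⟶ Over.mk τ' :=
    Over.homMk (Spec.map (CommRingCat.ofHom (algebraMap R R))) rfl
  have hκ : IsIso κs := by
    have : IsIso κs.left := by
      change IsIso (Spec.map (CommRingCat.ofHom (algebraMap R R)))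
      rw [hid]
      infer_instance
    have h2 : IsIso ((Over.forget W).map κs) := this
    exact isIso_of_reflects_iso κs (Over.forget W)
  have h1 := key (κa ≫ up ha' x') (by rw [Category.assoc, hx', MonObj.comp_one])
  change (up (es R) (dn (ea R) (κa ≫ up ha' x')) : tB (R := R) s R ⟶ Red.bc w G) ≫ f = 1 at h1
  rw [← comp_dn ha' (ea R) κτ κa rfl, dn_up, ← comp_up hs' (es R) κτ κs rfl, Category.assoc] at h1
  rw [← Category.assoc, e1]
  rw [← cancel_epi κs, h1, MonObj.comp_one]

end Groth.Agent.RedSub.H654.Kill
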