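import Groth.Agent.RedSub.H654.RootNN
import Groth.Agent.RedSub.H654.Kill

/-!
# Central torus points over algebraically closed fields

Over an algebraically closed field every point of a pinned group has the same image in `D(N)` as some
central point of the torus.
-/

set_option autoImplicit false
set_option linter.unusedSectionVars false
universe u

open CategoryTheory MonoidalCategory CartesianMonoidalCategory MonObj GrpObj AlgebraicGeometry Limits

namespace Groth.Agent.RedSub.H654.CentZ

open Groth.Agent.Sga3B Groth.Agent.Sga3B.Cell Groth.Agent.Sga3B.PtDescent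
open Groth.Agent.Sga3B.PinMod CharTor UnivPt SchemeChar PtBc Kill RootNN

variable {idx M : Type} [Fintype idx] [AddCommGroup M] [Module.Free ℤ M]
    [Module.Finite ℤ M] {P : RootPairing idx ℤ M (Module.Dual ℤ M)} {b : P.Base}

section pts

variable {R A : Type u} [CommRing R] [CommRing A] [Algebra R A] [PtGrp R A] (E : PinCell P b R A)
  {B : Type u} [CommRing B] [Algebra R B]

lemma commute_uu {t : TPt M B} (ht : ∀ i : idx, TPt.ch (P.root i) t = 1) (a : idx) (x : B) :
    Commute (E.i B t) (E.uu a B x) := by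
  have h := E.rel a t x
  rw [ht a, _root_.one_mul] at h
  exact mul_inv_eq_iff_eq_mul.mp h

lemma commute_cell {t : TPt M B} (ht : ∀ i : idx, TPt.ch (P.root i) t = 1) (x : idx → B)
    (t' : TPt M B) : Commute (E.i B t) (E.cell x t') := by
  refine Commute.mul_right ?_ ?_
  · apply Commute.list_prod_right
    intro y hy
    obtain ⟨a, -, rfl⟩ := List.mem_map.mp hy
    exact commute_uu E ht a (x a)
  · change E.i B t * E.i B t' = E.i B t' * E.i B t
    rw [← map_mul, ← map_mul]
    exact congrArg (E.i B) (_root_.mul_comm t t')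

/-- torus points killed by the roots are central -/
theorem commute_pt {t : TPt M B} (ht : ∀ i : idx, TPt.ch (P.root i) t = 1) (p : Pt R A B) :
    Commute (E.i B t) p := by
  obtain ⟨T, _, _, _, _, hff, x, s, x', s', hc⟩ := exists_cell_cover E p
  have h1 : ∀ i : idx, TPt.ch (P.root i) (TPt.map (IsScalarTower.toAlgHom R B T) t) = 1 := by
    intro i
    have h2 : TPt.ch (P.root i) (TPt.map (IsScalarTower.toAlgHom R B T) t) =
        (IsScalarTower.toAlgHom R B T) (TPt.ch (P.root i) t) := rfl
    rw [h2, ht i, map_one]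
  have h3 : Commute (E.i T (TPt.map (IsScalarTower.toAlgHom R B T) t))
      (Pt.map (IsScalarTower.toAlgHom R B T) p) := by
    rw [hc]
    exact (commute_cell E h1 x s).mul_right (commute_cell E h1 x' s')
  change E.i B t * p = p * E.i B t
  apply Pt.map_injective (φ := IsScalarTower.toAlgHom R B T)
    (by
      intro y z h
      exact FaithfulSMul.algebraMap_injective B T h)
  rw [Pt.map_mul, Pt.map_mul, E.i_nat]
  exact h3

end pts

section sch

variable {V : Scheme.{u}} {G : Over V} [GrpObj G] {j : Red.DS V M ⟶ G} {u : idx → (Red.Ga V ⟶ G)}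
  {K : Type u} [Field K] [IsAlgClosed K] {s : Spec (CommRingCat.of K) ⟶ V}

/-- over algebraically closed fields, central points surject on `D(N)`; form over `tB s K` -/
theorem exists_central_aux (hP : P.toLinearMap = Module.Dual.eval ℤ M) (m : PinModel P b G j u s)
    (q : G ⟶ Red.DS V (NN b)) [IsMonHom q]
    (hq : j ≫ q = Red.DSmap V (nu b)) (g : tB s K ⟶ G) :
    ∃ z : tB s K ⟶ G, z ≫ q = g ≫ q ∧ ∀ x : tB s K ⟶ G, z * x = x * z := by
  obtain ⟨p, rfl⟩ := (m.pts K).surjective g
  obtain ⟨t, h1, h2⟩ := exists_torus_point hP b (chi m q K p)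
  refine ⟨m.pts K (m.E.i K t), ?_, fun x => ?_⟩
  · rw [m.pts_i, Category.assoc, hq, ← chi_spec m q p, ← h1]
    exact dP_DSmap s (nu b) t
  · obtain ⟨p', rfl⟩ := (m.pts K).surjective x
    rw [← map_mul, ← map_mul]
    exact congrArg (m.pts K) (commute_pt m.E h2 p')

instance isIso_specMap_self (K : Type u) [CommRing K] :
    IsIso (Spec.map (CommRingCat.ofHom (algebraMap K K))) := by
  have hid : Spec.map (CommRingCat.ofHom (algebraMap K K)) = 𝟙 (Spec (CommRingCat.of K)) := by
    rw [Algebra.algebraMap_self]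
    exact Spec.map_id _
  rw [hid]
  infer_instance

/-- the comparison of `tB s K` with `Spec K` -/
noncomputable def kap (s : Spec (CommRingCat.of K) ⟶ V) : tB s K ≅ Over.mk s :=
  Over.isoMk (asIso (Spec.map (CommRingCat.ofHom (algebraMap K K)))) rfl

/-- **Over algebraically closed fields, central points surject on `D(N)`.** -/
theorem exists_central (hP : P.toLinearMap = Module.Dual.eval ℤ M) (m : PinModel P b G j u s)
    (q : G ⟶ Red.DS V (NN b)) [IsMonHom q]
    (hq : j ≫ q = Red.DSmap V (nu b)) (g : Over.mk s ⟶ G) :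
    ∃ z : Over.mk s ⟶ G, z ≫ q = g ≫ q ∧ ∀ x : Over.mk s ⟶ G, z * x = x * z := by
  obtain ⟨z, h1, h2⟩ := exists_central_aux hP m q hq ((kap s).hom ≫ g)
  refine ⟨(kap s).inv ≫ z, ?_, fun x => ?_⟩
  · rw [Category.assoc, h1, Category.assoc, Iso.inv_hom_id_assoc]
  · have h3 := congrArg ((kap s).inv ≫ ·) (h2 ((kap s).hom ≫ x))
    simp only [MonObj.comp_mul, Iso.inv_hom_id_assoc] at h3
    exact h3

end sch

end Groth.Agent.RedSub.H654.CentZ
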