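import Groth.Agent.RedSub.H654.CharWord

/-!
# The characters of a pinned group

`ν : N →+ M` a homomorphism killed by the simple coroots.  There is a natural homomorphism
`Pt R A B →* TPt N B` with value `t ∘ ν` at the point `cell x t` of the big cell.
-/

set_option autoImplicit false
set_option linter.unusedSectionVars false
universe u v

namespace Groth.Agent.RedSub.H654.CharTor

open Groth.Agent.Sga3B Groth.Agent.Sga3B.Cell Groth.Agent.Sga3B.Word Groth.Agent.Sga3B.PtDescent
open CharWord

section tor

variable {M N : Type} [AddCommGroup M] [AddCommGroup N] (ν : N →+ M)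

/-- pull back of torus points along a homomorphism of character groups -/
def pull (B : Type u) [CommRing B] : TPt M B →* TPt N B where
  toFun t := t.comp (AddMonoidHom.toMultiplicative ν)
  map_one' := rfl
  map_mul' _ _ := rfl

@[simp] lemma ch_pull {B : Type u} [CommRing B] (n : N) (t : TPt M B) :
    TPt.ch n (pull ν B t) = TPt.ch (ν n) t := rfl

lemma pull_nat {R B C : Type u} [CommRing R] [CommRing B] [Algebra R B] [CommRing C] [Algebra R C]
    (φ : B →ₐ[R] C) (t : TPt M B) : TPt.map φ (pull ν B t) = pull ν C (TPt.map φ t) := rfl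

end tor

section torGrp

variable (R : Type u) [CommRing R] (N : Type) [AddCommGroup N]
variable (B : Type u) [CommRing B] [Algebra R B]

/-- points of the torus ring -/
noncomputable def torEquiv : TPt N B ≃ Pt R (MonoidAlgebra R (Multiplicative N)) B where
  toFun t := Pt.mk (MonoidAlgebra.lift R B (Multiplicative N) ((Units.coeHom B).comp t))
  invFun f := MonoidHom.toHomUnits ((f.hom : MonoidAlgebra R (Multiplicative N) →* B).comp
    (MonoidAlgebra.of R (Multiplicative N)))
  left_inv t := by
    apply TPt.ext_ch
    intro m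
    change (MonoidAlgebra.lift R B (Multiplicative N) ((Units.coeHom B).comp t))
      (MonoidAlgebra.of R (Multiplicative N) (Multiplicative.ofAdd m)) = _
    rw [MonoidAlgebra.lift_of]
    rfl
  right_inv f := by
    apply MonoidAlgebra.algHom_ext
    · intro m
      change (MonoidAlgebra.lift R B (Multiplicative N) _) (MonoidAlgebra.of R _ m) = _
      rw [MonoidAlgebra.lift_of]
      rfl
    · exact Subsingleton.elim _ _

variable {R N B}

lemma torEquiv_of (t : TPt N B) (m : N) :
    (torEquiv R N B t).hom (MonoidAlgebra.of R (Multiplicative N) (Multiplicative.ofAdd m)) =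
      TPt.ch m t := by
  change (MonoidAlgebra.lift R B (Multiplicative N) ((Units.coeHom B).comp t))
      (MonoidAlgebra.of R (Multiplicative N) (Multiplicative.ofAdd m)) = _
  rw [MonoidAlgebra.lift_of]
  rfl

lemma torEquiv_nat {C : Type u} [CommRing C] [Algebra R C] (φ : B →ₐ[R] C) (t : TPt N B) :
    Pt.map φ (torEquiv R N B t) = torEquiv R N C (TPt.map φ t) := by
  apply MonoidAlgebra.algHom_ext
  · intro m
    change φ ((torEquiv R N B t).hom (MonoidAlgebra.of R (Multiplicative N) (Multiplicative.ofAdd m.toAdd))) =
      (torEquiv R N C (TPt.map φ t)).hom (MonoidAlgebra.of R (Multiplicative N)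
        (Multiplicative.ofAdd m.toAdd))
    rw [torEquiv_of, torEquiv_of]
    rfl
  · exact Subsingleton.elim _ _

variable (R N) in
/-- the group structure on the points of the torus ring -/
@[reducible] noncomputable def torGrp : PtGrp R (MonoidAlgebra R (Multiplicative N)) where
  grp B _ _ := (torEquiv R N B).symm.group
  map_mul' {B C} _ _ _ _ φ f g := by
    change Pt.map φ (torEquiv R N B ((torEquiv R N B).symm f * (torEquiv R N B).symm g)) =
      torEquiv R N C ((torEquiv R N C).symm (Pt.map φ f) * (torEquiv R N C).symm (Pt.map φ g))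
    have h : ∀ f : Pt R (MonoidAlgebra R (Multiplicative N)) B,
        TPt.map φ ((torEquiv R N B).symm f) = (torEquiv R N C).symm (Pt.map φ f) := by
      intro f
      apply (torEquiv R N C).injective
      rw [← torEquiv_nat, Equiv.apply_symm_apply, Equiv.apply_symm_apply]
    rw [torEquiv_nat, ← h, ← h, map_mul]

variable (R N B) in
/-- `torEquiv` as a group isomorphism -/
noncomputable def torMul : letI := torGrp R N
    TPt N B ≃* Pt R (MonoidAlgebra R (Multiplicative N)) B :=
  letI := torGrp R N
  { torEquiv R N B with
    map_mul' := fun s t => by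
      change torEquiv R N B (s * t) = torEquiv R N B ((torEquiv R N B).symm (torEquiv R N B s) *
        (torEquiv R N B).symm (torEquiv R N B t))
      rw [Equiv.symm_apply_apply, Equiv.symm_apply_apply] }

end torGrp

variable {idx M N : Type} [Fintype idx] [AddCommGroup M] [Module.Free ℤ M]
    [Module.Finite ℤ M] [AddCommGroup N] {P : RootPairing idx ℤ M (Module.Dual ℤ M)} {b : P.Base}
    {R A : Type u} [CommRing R] [CommRing A] [Algebra R A] [PtGrp R A]

/-- the homomorphism from the torus of a pinned group to the torus `D(N)` -/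
noncomputable def torHom (b : P.Base) (ν : N →+ M) (hν : ∀ a ∈ b.support, ∀ n, P.coroot a (ν n) = 0)
    (R : Type u) [CommRing R] : letI := torGrp R N
    TorHom b R (MonoidAlgebra R (Multiplicative N)) :=
  letI := torGrp R N
  { θ := fun B _ _ => ((torMul R N B : TPt N B ≃* _) : TPt N B →* _).comp (pull ν B)
    nat := fun {B C} _ _ _ _ φ t => torEquiv_nat φ (pull ν B t)
    cow := fun a ha {B} _ _ v => by
      have h : pull ν B (TPt.cow (P.coroot a) v) = 1 := by
        apply TPt.ext_ch
        intro n
        rw [ch_pull, TPt.ch_cow, hν a ha n, zpow_zero]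
        rfl
      change torMul R N B (pull ν B (TPt.cow (P.coroot a) v)) = 1
      rw [h]
      exact map_one (torMul R N B) }

/-- **The characters of a pinned group**, functor-of-points form. -/
theorem exists_char (E : PinCell P b R A) (ν : N →+ M)
    (hν : ∀ a ∈ b.support, ∀ n, P.coroot a (ν n) = 0) :
    ∃ χ : ∀ (B : Type u) [CommRing B] [Algebra R B], Pt R A B →* TPt N B,
      (∀ {B C : Type u} [CommRing B] [Algebra R B] [CommRing C] [Algebra R C] (φ : B →ₐ[R] C)
        (g : Pt R A B), χ C (Pt.map φ g) = TPt.map φ (χ B g)) ∧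
      ∀ {B : Type u} [CommRing B] [Algebra R B] (x : idx → B) (t : TPt M B),
        χ B (E.cell x t) = pull ν B t := by
  let _ := torGrp R N
  obtain ⟨φ, h1, h2⟩ := exists_ext E (torHom b ν hν R)
  refine ⟨fun B _ _ => MonoidHom.mk' (fun g => (torMul R N B).symm (comap φ g)) (fun g h => ?_),
    fun {B C} _ _ _ _ ψ g => ?_, fun {B} _ _ x t => ?_⟩
  · rw [h1, map_mul]
  · change (torMul R N C).symm (comap φ (Pt.map ψ g)) = TPt.map ψ ((torMul R N B).symm (comap φ g))
    apply (torMul R N C).injective
    rw [MulEquiv.apply_symm_apply]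
    have h3 := torEquiv_nat ψ ((torMul R N B).symm (comap φ g))
    refine Eq.trans ?_ h3
    have h4 : torEquiv R N B ((torMul R N B).symm (comap φ g)) = comap φ g :=
      (torMul R N B).apply_symm_apply _
    rw [h4]
    rfl
  · change (torMul R N B).symm (comap φ (E.cell x t)) = pull ν B t
    rw [h2]
    exact (torMul R N B).symm_apply_apply _

/-- a natural homomorphism to a torus is determined by its values on the big cell -/
theorem char_unique (E : PinCell P b R A) {B : Type u} [CommRing B] [Algebra R B]
    (χ χ' : ∀ (B : Type u) [CommRing B] [Algebra R B], Pt R A B →* TPt N B)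
    (hχ : ∀ {B C : Type u} [CommRing B] [Algebra R B] [CommRing C] [Algebra R C] (φ : B →ₐ[R] C)
        (g : Pt R A B), χ C (Pt.map φ g) = TPt.map φ (χ B g))
    (hχ' : ∀ {B C : Type u} [CommRing B] [Algebra R B] [CommRing C] [Algebra R C] (φ : B →ₐ[R] C)
        (g : Pt R A B), χ' C (Pt.map φ g) = TPt.map φ (χ' B g))
    (h : ∀ {B : Type u} [CommRing B] [Algebra R B] (x : idx → B) (t : TPt M B),
        χ B (E.cell x t) = χ' B (E.cell x t)) (g : Pt R A B) : χ B g = χ' B g := by
  obtain ⟨T, _, _, _, _, _, x, t, x', t', hc⟩ := PinCover.exists_cover E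
  -- the universal point
  have h1 : χ A (univ R A) = χ' A (univ R A) := by
    apply TPt.ext_ch
    intro n
    apply FaithfulSMul.algebraMap_injective A T
    have h2 : χ T (Pt.mk (IsScalarTower.toAlgHom R A T)) =
        χ' T (Pt.mk (IsScalarTower.toAlgHom R A T)) := by
      rw [hc, map_mul, map_mul, h, h]
    have h3 : Pt.mk (IsScalarTower.toAlgHom R A T) =
        Pt.map (IsScalarTower.toAlgHom R A T) (univ R A) := rfl
    rw [h3, hχ, hχ'] at h2
    exact congrArg (TPt.ch n) h2
  have h2 : g = Pt.map g.hom (univ R A) := rfl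
  rw [h2, hχ, hχ', h1]

end Groth.Agent.RedSub.H654.CharTor
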