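import Groth.Agent.Sga3B.WordGen
import Groth.Agent.Sga3B.PinCover

/-!
# Homomorphisms from a pinned group extending a homomorphism of the torus which kills the coroots

`E : PinCell P b R A`, `T : TorHom b R A'` a natural homomorphism from the torus to an affine group
functor `Pt R A'` which is trivial on the simple coroots.  Then there is a homomorphism
`Pt R A ⟶ Pt R A'` with value `T.θ t` at the point `cell x t` of the big cell (so it is trivial on the
root groups and extends `T.θ`).
-/

set_option autoImplicit false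
set_option linter.unusedSectionVars false
universe u v

namespace Groth.Agent.RedSub.H654.CharWord

open Groth.Agent.Sga3B Groth.Agent.Sga3B.Cell Groth.Agent.Sga3B.Word Groth.Agent.Sga3B.PtDescent
open TensorProduct

variable {idx M : Type} [Fintype idx] [AddCommGroup M] [Module.Free ℤ M]
    [Module.Finite ℤ M] {P : RootPairing idx ℤ M (Module.Dual ℤ M)} {b : P.Base}
    {R A A' : Type u} [CommRing R] [CommRing A] [Algebra R A] [PtGrp R A]
    [CommRing A'] [Algebra R A'] [PtGrp R A']

/-- A natural homomorphism from the torus to an affine group functor, trivial on the simple coroots. -/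
structure TorHom (b : P.Base) (R A' : Type u) [CommRing R] [CommRing A'] [Algebra R A'] [PtGrp R A'] where
  θ : ∀ (B : Type u) [CommRing B] [Algebra R B], TPt M B →* Pt R A' B
  nat : ∀ {B C : Type u} [CommRing B] [Algebra R B] [CommRing C] [Algebra R C] (φ : B →ₐ[R] C)
    (t : TPt M B), Pt.map φ (θ B t) = θ C (TPt.map φ t)
  cow : ∀ a ∈ b.support, ∀ {B : Type u} [CommRing B] [Algebra R B] (v : Bˣ),
    θ B (TPt.cow (P.coroot a) v) = 1

namespace TorHom

variable (T : TorHom b R A')

lemma θ_inv {B : Type u} [CommRing B] [Algebra R B] (t : TPt M B) : T.θ B t⁻¹ = (T.θ B t)⁻¹ :=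
  map_inv (T.θ B) t

/-- the degenerate model: all letters go to `1` -/
def dm (B : Type u) [CommRing B] [Algebra R B] : Model (lwt b) (lcor b) B (Pt R A' B) where
  i := T.θ B
  u _ _ := 1
  u_add _ _ _ := (mul_one _).symm
  rel _ t _ := by rw [mul_one, mul_inv_cancel]
  rank1 a x y v _ := by
    have h := T.cow a a.2 v
    change (1 : Pt R A' B) * 1 = 1 * T.θ B (TPt.cow (P.coroot a) v) * 1
    rw [h]
    simp
  comm _ _ _ _ _ := rfl

lemma dm_evL (B : Type u) [CommRing B] [Algebra R B] (L : List (Lt b.support × B)) :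
    (T.dm B).evL L = 1 := by
  induction L with
  | nil => rfl
  | cons p L ih =>
    rw [Model.evL_cons, ih]
    exact mul_one _

lemma dm_evS (B : Type u) [CommRing B] [Algebra R B] (s : Bool) (L : List (b.support × B)) :
    (T.dm B).evS s L = 1 := by
  induction L with
  | nil => rfl
  | cons p L ih =>
    rw [Model.evS_cons, ih]
    exact mul_one _

end TorHom

/-- a point of the cell whose torus part is killed by `T` -/
def AgreeT (E : PinCell P b R A) (T : TorHom b R A') {B : Type u} [CommRing B] [Algebra R B]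
    (g : Pt R A B) : Prop :=
  ∃ (x : idx → B) (t : TPt M B), g = E.cell x t ∧ T.θ B t = 1

section

variable (E : PinCell P b R A) (T : TorHom b R A') {B : Type u} [CommRing B] [Algebra R B]

theorem agreeT_small (I : Ideal B) (hI : ∀ z ∈ I, IsUnit (1 + z))
    (L : List (Lt b.support × B)) (hL : ∀ p ∈ L, p.2 ∈ I) : AgreeT E T ((mdl E B).evL L) := by
  classical
  obtain ⟨N, Q, h, key⟩ := exists_norm.{u, u} (wt := lwt b) (cor := lcor b) I hI L hL
  have h1 := key (mdl E B)
  have h2 := key (T.dm B)
  obtain ⟨y, hy1, -⟩ := exists_negP E N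
  obtain ⟨z, hz1, -⟩ := exists_posP E Q
  refine ⟨glue b y (fun a => TPt.ch (P.root a) h * z a), h, ?_, ?_⟩
  · rw [h1, hy1, hz1]
    exact norm_eq_cell E y z h
  · rw [T.dm_evL, T.dm_evS, T.dm_evS, one_mul, mul_one] at h2
    exact h2.symm

lemma AgreeT.map {C : Type u} [CommRing C] [Algebra R C] (φ : B →ₐ[R] C) {g : Pt R A B}
    (h : AgreeT E T g) : AgreeT E T (Pt.map φ g) := by
  obtain ⟨x, t, h1, h2⟩ := h
  refine ⟨fun a => φ (x a), TPt.map φ t, ?_, ?_⟩
  · rw [h1, E.cell_nat]
  · rw [← T.nat, h2, Pt.map_one]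

/-- agreement descends along injective ring maps -/
lemma agreeT_of_injective {B C : Type u} [CommRing B] [Algebra R B] [CommRing C] [Algebra R C]
    (φ : B →ₐ[R] C) (hφ : Function.Injective φ) {g : Pt R A B}
    (h : InCell E g) (ha : AgreeT E T (Pt.map φ g)) : AgreeT E T g := by
  obtain ⟨x, t, rfl⟩ := (inCell_iff E).mp h
  obtain ⟨y, s, h1, h2⟩ := ha
  rw [E.cell_nat] at h1
  obtain ⟨h4, h5⟩ := E.cell_injective h1
  refine ⟨x, t, rfl, ?_⟩
  apply Pt.map_injective hφ
  rw [T.nat, h5, h2, Pt.map_one]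

/-- agreement can be checked locally -/
lemma agreeT_of_away {P₀ C : Type u} [CommRing P₀] [CommRing C] [Algebra R C] (φ : P₀ →+* C)
    (J : Ideal P₀) (hJ : J.map φ = ⊤) {g : Pt R A C} (h : InCell E g)
    (ha : ∀ f ∈ J, AgreeT E T (Pt.map (IsScalarTower.toAlgHom R C (Localization.Away (φ f))) g)) :
    AgreeT E T g := by
  obtain ⟨x, t, rfl⟩ := (inCell_iff E).mp h
  refine ⟨x, t, rfl, ?_⟩
  apply Pt.ext
  intro a
  apply eq_of_away φ J hJ
  intro f hf
  obtain ⟨y, s, h1, h2⟩ := ha f hf
  rw [E.cell_nat] at h1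
  obtain ⟨h4, h5⟩ := E.cell_injective h1
  have h6 : Pt.map (IsScalarTower.toAlgHom R C (Localization.Away (φ f))) (T.θ C t) =
      Pt.map (IsScalarTower.toAlgHom R C (Localization.Away (φ f))) (1 : Pt R A' C) := by
    rw [T.nat, h5, h2, Pt.map_one]
  exact congrArg (fun k : Pt R A' (Localization.Away (φ f)) => k.hom a) h6

/-- transfer of the agreement from a ring `S ⊇ P₀` to an arbitrary specialization `P₀ → C` -/
theorem agreeT_transfer {P₀ S C : Type u} [CommRing P₀] [Algebra R P₀] [CommRing S] [Algebra R S]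
    [CommRing C] [Algebra R C] (j : P₀ →ₐ[R] S) (hj : Function.Injective j) (φ : P₀ →ₐ[R] C)
    (g : Pt R A P₀) (hS : AgreeT E T (Pt.map j g))
    (h : InCell E (Pt.map φ g)) : AgreeT E T (Pt.map φ g) := by
  have hJ : (E.cellIdeal.map g.hom.toRingHom).map φ.toRingHom = ⊤ := by
    rw [Ideal.map_map]
    exact h
  -- agreement over the localizations of the polynomial ring
  have hloc : ∀ f, f ∈ E.cellIdeal.map g.hom.toRingHom →
      AgreeT E T (Pt.map (IsScalarTower.toAlgHom R P₀ (Localization.Away f)) g) := by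
    intro f hf1
    have hu : IsUnit ((IsScalarTower.toAlgHom R P₀ (Localization.Away f)) f) := by
      rw [IsScalarTower.toAlgHom_apply]
      exact IsLocalization.Away.algebraMap_isUnit f
    have i1 : InCell E (Pt.map (IsScalarTower.toAlgHom R P₀ (Localization.Away f)) g) :=
      inCell_away E hf1 _ hu
    refine agreeT_of_injective E T (Localization.awayMapₐ j f)
      (IsLocalization.Away.mapₐ_injective_of_injective _ hj) i1 ?_
    rw [Pt.map_map, awayMapₐ_comp, ← Pt.map_map]
    exact hS.map E T _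
  refine agreeT_of_away E T φ.toRingHom _ hJ h ?_
  intro f hf
  have e := awayMapₐ_comp φ f
  have key := (hloc f hf).map E T (Localization.awayMapₐ φ f)
  rw [Pt.map_map, e, ← Pt.map_map] at key
  exact key

/-- **words in the cell have a torus part killed by `T`** -/
theorem agreeT_evL {C : Type u} [CommRing C] [Algebra R C] (L : List (Lt b.support × C))
    (h : InCell E ((mdl E C).evL L)) : AgreeT E T ((mdl E C).evL L) := by
  -- the universal word
  obtain ⟨U, hU, hU0⟩ : ∃ U : List (Lt b.support × MvPolynomial (Fin L.length) R),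
      mapL b (MvPolynomial.aeval (R := R) (fun k => (L.get k).2)) U = L ∧
      ∀ p ∈ U, MvPolynomial.constantCoeff p.2 = 0 := by
    refine ⟨List.ofFn (fun k : Fin L.length => ((L.get k).1, MvPolynomial.X k)), ?_, ?_⟩
    · rw [mapL, List.map_ofFn]
      conv_rhs => rw [← List.ofFn_get L]
      congr 1
      funext k
      exact Prod.ext rfl (MvPolynomial.aeval_X _ _)
    · intro p hp
      obtain ⟨k, rfl⟩ := List.mem_ofFn.mp hp
      simp
  -- power series
  have hj : ∀ p : MvPolynomial (Fin L.length) R,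
      (MvPolynomial.coeToMvPowerSeries.algHom R : MvPolynomial (Fin L.length) R →ₐ[R]
        MvPowerSeries (Fin L.length) R) p = (p : MvPowerSeries (Fin L.length) R) := by
    intro p
    rw [MvPolynomial.coeToMvPowerSeries.algHom_apply, Algebra.algebraMap_self, MvPowerSeries.map_id]
    rfl
  have key := agreeT_transfer E T (MvPolynomial.coeToMvPowerSeries.algHom R :
      MvPolynomial (Fin L.length) R →ₐ[R] MvPowerSeries (Fin L.length) R)
      (fun p q hpq => MvPolynomial.coe_injective _ _ (by rwa [hj, hj] at hpq))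
      (MvPolynomial.aeval (R := R) (fun k => (L.get k).2))
      ((mdl E _).evL U)
  rw [map_evL, map_evL, hU] at key
  refine key ?_ h
  refine agreeT_small E T (RingHom.ker (MvPowerSeries.constantCoeff (σ := Fin L.length) (R := R)))
    ?_ _ ?_
  · intro z hz
    rw [MvPowerSeries.isUnit_iff_constantCoeff, map_add, map_one, (RingHom.mem_ker).mp hz]
    simp
  · intro p hp
    obtain ⟨q, hq, rfl⟩ := List.mem_map.mp hp
    have := hU0 q hq
    rw [RingHom.mem_ker]
    change MvPowerSeries.constantCoeff ((MvPolynomial.coeToMvPowerSeries.algHom R :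
      MvPolynomial (Fin L.length) R →ₐ[R] MvPowerSeries (Fin L.length) R) q.2) = 0
    rw [hj, ← this]
    rfl

/-- the torus part of a word times a torus element, when it lies in the cell -/
theorem θ_eq_of_evL_mul {C : Type u} [CommRing C] [Algebra R C] (L : List (Lt b.support × C))
    (t : TPt M C) {x : idx → C} {s : TPt M C} (h : (mdl E C).evL L * E.i C t = E.cell x s) :
    T.θ C t = T.θ C s := by
  have h3 : (mdl E C).evL L = E.cell x (s * t⁻¹) := by
    rw [← cell_mul_i, ← h, i_inv, mul_inv_cancel_right]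
  obtain ⟨y, r, h1, h2⟩ := agreeT_evL E T L (by rw [h3]; exact inCell_cell E _ _)
  obtain ⟨-, h4⟩ := E.cell_injective (h3.symm.trans h1)
  rw [← h4, map_mul, T.θ_inv, mul_inv_eq_one] at h2
  exact h2.symm

end

section graph

variable (E : PinCell P b R A) (T : TorHom b R A')

/-- the graph subgroup: pairs (value of a word, value of its torus part) -/
def gr (B : Type u) [CommRing B] [Algebra R B] : Subgroup (Pt R A B × Pt R A' B) where
  carrier := {p | ∃ (L : List (Lt b.support × B)) (t : TPt M B),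
    p = ((mdl E B).evL L * E.i B t, T.θ B t)}
  one_mem' := ⟨[], 1, by simp; rfl⟩
  mul_mem' := by
    rintro _ _ ⟨L, t, rfl⟩ ⟨L', t', rfl⟩
    refine ⟨L ++ act (lwt b) t L', t * t', ?_⟩
    have h1 := (mdl E B).i_mul_evL t L'
    rw [mdl_i] at h1
    rw [Prod.mk_mul_mk, Model.evL_append, map_mul, map_mul]
    refine Prod.ext ?_ rfl
    change (mdl E B).evL L * E.i B t * ((mdl E B).evL L' * E.i B t') = _
    rw [mul_assoc, ← mul_assoc (E.i B t), h1]
    simp only [mul_assoc]
  inv_mem' := by
    rintro _ ⟨L, t, rfl⟩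
    refine ⟨act (lwt b) t⁻¹ (inv L), t⁻¹, ?_⟩
    have h1 := (mdl E B).i_mul_evL t⁻¹ (inv L)
    rw [mdl_i] at h1
    rw [← h1, Prod.inv_mk, mul_inv_rev, Model.evL_inv, i_inv, T.θ_inv]

variable {B C : Type u} [CommRing B] [Algebra R B] [CommRing C] [Algebra R C]

lemma gr_map (φ : B →ₐ[R] C) {w : Pt R A B × Pt R A' B} (h : w ∈ gr E T B) :
    (Pt.map φ w.1, Pt.map φ w.2) ∈ gr E T C := by
  obtain ⟨L, t, rfl⟩ := h
  refine ⟨mapL b φ L, TPt.map φ t, ?_⟩
  rw [← map_evL, ← E.i_nat, ← T.nat, ← Pt.map_mul]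

/-- the word system -/
def sys : WordSys R where
  Wd B _ _ := gr E T B
  map φ w := ⟨(Pt.map φ w.1.1, Pt.map φ w.1.2), gr_map E T φ w.2⟩

/-- first projection -/
def fstEv : WordEv (sys E T) A where
  ev B _ _ := (MonoidHom.fst _ _).comp (gr E T B).subtype
  ev_nat _ _ := rfl

/-- second projection -/
def sndEv : WordEv (sys E T) A' where
  ev B _ _ := (MonoidHom.snd _ _).comp (gr E T B).subtype
  ev_nat _ _ := rfl

/-- every point of the cell occurs in the graph, with the expected second component -/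
lemma cell_mem_gr (x : idx → B) (t : TPt M B) : (E.cell x t, T.θ B t) ∈ gr E T B := by
  obtain ⟨y, L, s, h⟩ := exists_cell_mem_graph E E B x t
  have h1 : E.cell x t = (mdl E B).evL L * E.i B s := congrArg Prod.snd h
  refine ⟨L, s, ?_⟩
  rw [← h1, θ_eq_of_evL_mul E T L s h1.symm]

lemma covers : (fstEv E T).Covers := by
  apply PinCover.covers E
  intro B _ _ x t
  exact ⟨⟨_, cell_mem_gr E T x t⟩, rfl⟩

lemma rel : Rel (fstEv E T) (sndEv E T) := by
  intro B _ _ w v h
  have h' : w.1.1 = v.1.1 := h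
  change w.1.2 = v.1.2
  have h1 := (gr E T B).mul_mem w.2 ((gr E T B).inv_mem v.2)
  have h2 : (w.1 * v.1⁻¹ : Pt R A B × Pt R A' B) = (1, w.1.2 * v.1.2⁻¹) := by
    ext1
    · change w.1.1 * v.1.1⁻¹ = 1
      rw [h', mul_inv_cancel]
    · rfl
  rw [h2] at h1
  obtain ⟨L, t, h3⟩ := h1
  have h4 : (1 : Pt R A B) = (mdl E B).evL L * E.i B t := congrArg Prod.fst h3
  have h5 : w.1.2 * v.1.2⁻¹ = T.θ B t := congrArg Prod.snd h3
  have h6 : (mdl E B).evL L * E.i B t = E.cell (fun _ => (0 : B)) 1 := by
    rw [← h4]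
    have := E.toDatum.cell_zero (B := B) (allList b) 1
    rw [map_one] at this
    exact this.symm
  rw [θ_eq_of_evL_mul E T L t h6, map_one] at h5
  exact mul_inv_eq_one.mp h5

/-- **Extension of a homomorphism of the torus trivial on the coroots.** -/
theorem exists_ext : ∃ φ : A' →ₐ[R] A,
    (∀ {B : Type u} [CommRing B] [Algebra R B] (g h : Pt R A B),
      comap φ (g * h) = comap φ g * comap φ h) ∧
    ∀ {B : Type u} [CommRing B] [Algebra R B] (x : idx → B) (t : TPt M B),
      comap φ (E.cell x t) = T.θ B t := by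
  obtain ⟨φ, hφ⟩ := PtDescent.exists_hom (covers E T) (rel E T)
  exact ⟨φ, fun g h => comap_mul (covers E T) hφ g h,
    fun x t => hφ _ ⟨_, cell_mem_gr E T x t⟩⟩

end graph

end Groth.Agent.RedSub.H654.CharWord
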