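import Groth.Agent.RedSub.H654.CentZ
import Groth.Agent.S2962
import Groth.Agent.Sga3B.SsRankOne
import Groth.Agent.Sga3B.TorusAlgClosed
import Groth.Agent.Sga3B.RadOpen.PtRed
import Groth.Agent.Sga3B.BorSpan613
import Groth.Agent.Sga3B.PinFinal

/-!
# The kernel of the universal character of a pinned group is semisimple (geometric fibres)
-/

set_option autoImplicit false
set_option linter.unusedSectionVars false
universe u

open CategoryTheory MonoidalCategory CartesianMonoidalCategory MonObj GrpObj AlgebraicGeometry Limits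
open Groth.Agent.Books.AffBridge Groth.Agent.Books.AffBridge2

namespace Groth.Agent.RedSub.H654.KerSS

open Groth.Agent.Sga3B Groth.Agent.Sga3B.PinMod Groth.Agent.Sga3B.PinFinal
open Groth.Agent.Sga3B.DSPts
open UnivPt SchemeChar PtBc Kill RootNN CentZ

section field

variable {K : Type u} [Field K] [IsAlgClosed K]

open RG RG.BrPts RG.BrTorus RG.BrRed2 RG.BrMax

/-- Normality transfer: if `G(K)` is generated by `D'(K)` and central elements, closed normal
subgroups of `D'` are normal in `G`. -/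
theorem isNormalHom_comp {G D' U : Over (Spec (CommRingCat.of K))} [GrpObj G] [GrpObj D'] [GrpObj U]
    (d : D' ⟶ G) [IsMonHom d] (hd : IsClosedImmersion d.left) (hG : Smooth G.hom) (i : U ⟶ D')
    [IsMonHom i] (hi : IsClosedImmersion i.left) (hU : Smooth U.hom) (hn : AlgGrp.IsNormalHom i)
    (hz : ∀ g : 𝟙_ (Over (Spec (CommRingCat.of K))) ⟶ G,
      ∃ (z : 𝟙_ (Over (Spec (CommRingCat.of K))) ⟶ G) (y : 𝟙_ (Over (Spec (CommRingCat.of K))) ⟶ D'),
        g = (y ≫ d) * z ∧ ∀ x : 𝟙_ (Over (Spec (CommRingCat.of K))) ⟶ G, z * x = x * z) :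
    AlgGrp.IsNormalHom (i ≫ d) := by
  have hid : IsClosedImmersion (i ≫ d).left := by
    rw [Over.comp_left]
    infer_instance
  refine isNormalHom_of_points (i ≫ d) fun g n => ?_
  obtain ⟨z, y, rfl, hzc⟩ := hz g
  obtain ⟨n', hn'⟩ := hn _ y n
  refine ⟨n', ?_⟩
  have h1 : (y ≫ d) * z * (n ≫ i ≫ d) * ((y ≫ d) * z)⁻¹ = (y ≫ d) * (n ≫ i ≫ d) * (y ≫ d)⁻¹ := by
    rw [_root_.mul_inv_rev, _root_.mul_assoc (y ≫ d) z, hzc]
    group
  rw [h1, ← Category.assoc n' i d, ← hn', MonObj.mul_comp, MonObj.mul_comp, GrpObj.inv_comp,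
    Category.assoc]

/-- A normal torus of a reductive group over an algebraically closed field is central. -/
theorem torus_central {G T : Over (Spec (CommRingCat.of K))} [GrpObj G] [GrpObj T]
    (hG : Red.IsReductiveOver K G) (i : T ⟶ G) [IsMonHom i] (hi : IsClosedImmersion i.left)
    (hn : AlgGrp.IsNormalHom i) (hT : Red.IsTorus T)
    (t : 𝟙_ (Over (Spec (CommRingCat.of K))) ⟶ T) (X : Over (Spec (CommRingCat.of K)))
    (g : X ⟶ G) : (toUnit X ≫ t ≫ i) * g = g * (toUnit X ≫ t ≫ i) := by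
  have := hG.1
  have := hG.2.1
  obtain ⟨A, _, _, e, he⟩ := exists_hopf K G
  have := SsRankOne.finiteType_of_iso e
  obtain ⟨hdom, hred⟩ := isReductiveOver_iff.1 (isReductiveOver_of_iso e hG)
  have : IsIso e.hom.left := inferInstanceAs (IsIso ((Over.forget _).map e.hom))
  have hj : IsClosedImmersion (i ≫ e.hom).left := by
    rw [Over.comp_left]; infer_instance
  have : Mono i := Books.AlgPtsGrp.mono_of_isClosedImmersion i
  have h1 : IsTorusSub (ptsSub (i ≫ e.hom)) := isTorusSub_ptsSub (i ≫ e.hom) hT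
  have hne : AlgGrp.IsNormalHom (i ≫ e.hom) := by
    intro Y y n
    obtain ⟨n', hn'⟩ := hn Y (y ≫ e.inv) n
    refine ⟨n', ?_⟩
    rw [← Category.assoc n' i, ← hn', MonObj.mul_comp, MonObj.mul_comp, GrpObj.inv_comp,
      Category.assoc, Category.assoc, Iso.inv_hom_id, Category.comp_id]
  have h2 := RadOpen.le_center_of_isTorusSub h1 (normal_ptsSub (i ≫ e.hom) hne)
  -- rational points
  have key : ∀ x : 𝟙_ (Over (Spec (CommRingCat.of K))) ⟶ G, (t ≫ i) * x = x * (t ≫ i) := by
    intro x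
    rw [← cancel_mono e.hom, MonObj.mul_comp, MonObj.mul_comp, Category.assoc]
    apply (ptEquiv K A).symm.injective
    rw [map_mul, map_mul]
    have h3 : (ptEquiv K A).symm (t ≫ i ≫ e.hom) ∈ ptsSub (i ≫ e.hom) := ⟨t, by simp⟩
    exact ((Subgroup.mem_center_iff.mp (h2 h3)) _).symm
  have hsep : IsSeparated G.hom := inferInstance
  have hredG : IsReduced G.left := Books.AlgPtsSmooth.isReduced_of_smooth G
  have h4 : (toUnit G ≫ t ≫ i) * 𝟙 G = 𝟙 G * (toUnit G ≫ t ≫ i) := by
    refine hom_ext_of_points _ _ fun x => ?_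
    have h5 : x ≫ toUnit G = 𝟙 _ := toUnit_unique _ _
    rw [MonObj.comp_mul, MonObj.comp_mul, ← Category.assoc x, h5, Category.id_comp,
      Category.comp_id]
    exact key x
  have h6 := congrArg (g ≫ ·) h4
  simp only [MonObj.comp_mul, Category.comp_id] at h6
  have h7 : g ≫ toUnit G ≫ t ≫ i = toUnit X ≫ t ≫ i := by
    rw [← Category.assoc, toUnit_unique (g ≫ toUnit G) (toUnit X)]
  rw [h7] at h6
  exact h6

/-- `dP` as a homomorphism -/
noncomputable def dPm {V : Scheme.{u}} {R : Type u} [CommRing R] (s : Spec (CommRingCat.of R) ⟶ V)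
    (M : Type) [AddCommGroup M] (B : Type u) [CommRing B] [Algebra R B] :
    Cell.TPt M B →* (tB s B ⟶ Red.DS V M) where
  toFun := dP s
  map_one' := dP_one s
  map_mul' := dP_mul s

/-- The points of a torus over an algebraically closed field are divisible. -/
theorem exists_root {T : Over (Spec (CommRingCat.of K))} [GrpObj T] (hT : Red.IsTorus T) {k : ℕ}
    (hk : k ≠ 0) (n : 𝟙_ (Over (Spec (CommRingCat.of K))) ⟶ T) :
    ∃ m : 𝟙_ (Over (Spec (CommRingCat.of K))) ⟶ T, m ^ k = n := by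
  obtain ⟨r, ⟨e⟩⟩ := TorusAlgClosed.exists_isSplitTorusWith hT
  let s : Spec (CommRingCat.of K) ⟶ Spec (CommRingCat.of K) := 𝟙 _
  let κ : tB s K ≅ 𝟙_ (Over (Spec (CommRingCat.of K))) := kap s
  obtain ⟨t, ht⟩ := dP_surjective s (κ.hom ≫ n ≫ e.hom.hom.hom)
  -- a `k`-th root of the torus point
  have hroot : ∀ x : Kˣ, ∃ y : Kˣ, y ^ k = x := by
    intro x
    obtain ⟨y, hy⟩ := IsAlgClosed.exists_pow_nat_eq (x : K) (Nat.pos_of_ne_zero hk)
    have hy0 : y ≠ 0 := by
      rintro rfl
      rw [zero_pow hk] at hy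
      exact x.ne_zero hy.symm
    exact ⟨Units.mk0 y hy0, Units.ext (by rw [Units.val_pow_eq_pow_val]; exact hy)⟩
  choose ψ hψ using hroot
  let bs := Pi.basisFun ℤ (Fin r)
  let L : (Fin r → ℤ) →ₗ[ℤ] Additive Kˣ := bs.constr ℤ fun i => Additive.ofMul (ψ (t (Multiplicative.ofAdd (bs i))))
  let t' : Cell.TPt (Fin r → ℤ) K := AddMonoidHom.toMultiplicativeLeft L.toAddMonoidHom
  have ht' : t' ^ k = t := by
    have h1 : (k : ℤ) • L = (tadd t).toIntLinearMap := by
      apply bs.ext
      intro i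
      apply Additive.toMul.injective
      change ((L (bs i)).toMul) ^ (k : ℤ) = t (Multiplicative.ofAdd (bs i))
      rw [Module.Basis.constr_basis, zpow_natCast]
      exact hψ _
    apply MonoidHom.ext
    intro x
    have h2 := LinearMap.congr_fun h1 x.toAdd
    have h3 := congrArg Additive.toMul h2
    have h4 : (t' ^ k) x = ((L x.toAdd).toMul) ^ (k : ℤ) := by
      rw [zpow_natCast]
      rfl
    rw [h4]
    exact h3
  refine ⟨κ.inv ≫ dP s t' ≫ e.inv.hom.hom, ?_⟩
  have he1 : IsMonHom e.inv.hom.hom := inferInstance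
  have he2 : e.hom.hom.hom ≫ e.inv.hom.hom = 𝟙 _ := congrArg (fun f => f.hom.hom) e.hom_inv_id
  let φ : (tB s K ⟶ Red.DS (Spec (CommRingCat.of K)) (Fin r → ℤ)) →*
      (𝟙_ (Over (Spec (CommRingCat.of K))) ⟶ T) :=
    { toFun := fun y => κ.inv ≫ y ≫ e.inv.hom.hom
      map_one' := by rw [MonObj.one_comp, MonObj.comp_one]
      map_mul' := fun y y' => by
        rw [← MonObj.comp_mul]
        exact congrArg (κ.inv ≫ ·) (MonObj.mul_comp y y' e.inv.hom.hom) }
  change (φ (dPm s (Fin r → ℤ) K t')) ^ k = n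
  rw [← map_pow, ← map_pow, ht']
  change κ.inv ≫ dP s t ≫ e.inv.hom.hom = n
  rw [ht, Category.assoc, Category.assoc, he2, Category.comp_id, Iso.inv_hom_id_assoc]

end field

section pow

variable {V : Scheme.{u}} {G : Over V} [GrpObj G] (D : Red.Pinning G)
  (q : G ⟶ Red.DS V (NN D.base)) [IsMonHom q]

/-- Central points killed by `q` have bounded order. -/
theorem pow_eq_one (hq : jOf D.toSplitRed ≫ q = Red.DSmap V (nu D.base)) {k : ℕ}
    (hk : ∀ m : D.M, ∃ β ∈ Submodule.span ℤ (Set.range D.P.root), (k : ℤ) • m - β ∈ NN D.base)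
    {X : Over V} (g : X ⟶ G) (hg : g ≫ q = 1)
    (hc : ∀ (X' : Over V) (x : X' ⟶ X) (h : X' ⟶ G), (x ≫ g) * h = h * (x ≫ g)) : g ^ k = 1 := by
  obtain ⟨t, ht, hroot⟩ := (Groth.Agent.S2962.result D.toSplitRed X g).1 hc
  let y : X ⟶ Red.DS V D.M := t ≫ D.split.hom.hom.hom
  have h1 : D.split.hom.hom.hom ≫ D.split.inv.hom.hom = 𝟙 _ :=
    congrArg (fun f => f.hom.hom) D.split.hom_inv_id
  have hy : y ≫ jOf D.toSplitRed = g := by
    change (t ≫ D.split.hom.hom.hom) ≫ D.split.inv.hom.hom ≫ D.i = g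
    rw [Category.assoc, ← Category.assoc D.split.hom.hom.hom, h1, Category.id_comp, ht]
  have hynu : y ≫ Red.DSmap V (nu D.base) = 1 := by
    rw [← hq, ← Category.assoc, hy, hg]
  -- the character of `y`
  let χ := dsChar y
  have e1 : ∀ a : D.idx, χ (Multiplicative.ofAdd (D.P.root a)) = 1 := by
    intro a
    have h2 : dsChar (y ≫ Red.chi V (D.P.root a)) = 1 := by
      have h3 : y ≫ Red.chi V (D.P.root a) = 1 := (Category.assoc _ _ _).trans (hroot a)
      rw [h3, BorSpan613.dsChar_one]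
    rw [Red.chi, dsChar_DSmap] at h2
    have h4 := DFunLike.congr_fun h2 (Multiplicative.ofAdd (1 : ℤ))
    change χ (Multiplicative.ofAdd ((zmultiplesHom D.M (D.P.root a)) (1 : ℤ))) = 1 at h4
    rwa [zmultiplesHom_apply, one_zsmul] at h4
  have e2 : ∀ n : NN D.base, χ (Multiplicative.ofAdd (n : D.M)) = 1 := by
    intro n
    have h2 : dsChar (y ≫ Red.DSmap V (nu D.base)) = 1 := by rw [hynu, BorSpan613.dsChar_one]
    rw [dsChar_DSmap] at h2
    exact DFunLike.congr_fun h2 (Multiplicative.ofAdd n)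
  -- the kernel of the character
  let W : AddSubgroup D.M :=
    { carrier := {m | χ (Multiplicative.ofAdd m) = 1}
      zero_mem' := χ.map_one
      add_mem' := fun {a b} ha hb => by
        change χ (Multiplicative.ofAdd a * Multiplicative.ofAdd b) = 1
        rw [map_mul, ha, hb, _root_.mul_one]
      neg_mem' := fun {a} ha => by
        have h5 : χ (Multiplicative.ofAdd (-a)) * χ (Multiplicative.ofAdd a) = 1 := by
          rw [← map_mul, ← ofAdd_add, neg_add_cancel]
          exact χ.map_one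
        change χ (Multiplicative.ofAdd (-a)) = 1
        rw [ha, _root_.mul_one] at h5
        exact h5 }
  have hW : Submodule.span ℤ (Set.range D.P.root) ≤ AddSubgroup.toIntSubmodule W := by
    rw [Submodule.span_le]
    rintro _ ⟨a, rfl⟩
    exact e1 a
  have e3 : ∀ m : D.M, χ (Multiplicative.ofAdd ((k : ℤ) • m)) = 1 := by
    intro m
    obtain ⟨β, hβ, hn⟩ := hk m
    have h6 : β ∈ W := hW hβ
    have h7 : (k : ℤ) • m - β ∈ W := e2 ⟨_, hn⟩
    have h8 := W.add_mem h7 h6
    rw [sub_add_cancel] at h8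
    exact h8
  have hyk : y ^ k = 1 := by
    apply (dsEquiv X D.M).symm.injective
    rw [map_pow, map_one]
    apply MonoidHom.ext
    intro m
    change (dsChar y) m ^ k = 1
    rw [← map_pow]
    have h9 := e3 m.toAdd
    rw [natCast_zsmul, ofAdd_nsmul] at h9
    exact h9
  have hj : IsMonHom (jOf D.toSplitRed) := by
    have h10 : IsMonHom D.split.inv.hom.hom := inferInstance
    have h11 : IsMonHom D.i := D.maximalTorus.1
    infer_instance
  let φ : (X ⟶ Red.DS V D.M) →* (X ⟶ G) :=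
    { toFun := fun y => y ≫ jOf D.toSplitRed
      map_one' := MonObj.one_comp _
      map_mul' := fun y y' => MonObj.mul_comp y y' _ }
  have h12 : φ (y ^ k) = g ^ k := by
    rw [map_pow]
    exact congrArg (· ^ k) hy
  rw [← h12, hyk, map_one]

end pow

section main

open RG RG.BrPts RG.BrTorus RG.BrRed2 RG.BrMax

variable {V : Scheme.{u}} {G D' : Over V} [GrpObj G] [GrpObj D'] (D : Red.Pinning G)
  (q : G ⟶ Red.DS V (NN D.base)) [IsMonHom q] (d : D' ⟶ G) [IsMonHom d]
  {K : Type u} [Field K] [IsAlgClosed K] (s : Spec (CommRingCat.of K) ⟶ V)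

/-- the decomposition of rational points of the fibre -/
theorem exists_decomp (hq : jOf D.toSplitRed ≫ q = Red.DSmap V (nu D.base))
    (hker : ∀ (X : Over V) (x : X ⟶ G), x ≫ q = 1 → ∃ y : X ⟶ D', y ≫ d = x)
    (g : 𝟙_ (Over (Spec (CommRingCat.of K))) ⟶ Red.bc s G) :
    ∃ (z : 𝟙_ (Over (Spec (CommRingCat.of K))) ⟶ Red.bc s G)
      (y : 𝟙_ (Over (Spec (CommRingCat.of K))) ⟶ Red.bc s D'),
        g = (y ≫ (Over.pullback s).map d) * z ∧
        ∀ x : 𝟙_ (Over (Spec (CommRingCat.of K))) ⟶ Red.bc s G, z * x = x * z := by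
  have h : 𝟙 (Spec (CommRingCat.of K)) ≫ s = s := Category.id_comp s
  obtain ⟨m⟩ := PinModelOf.nonempty_pinModel D K s
  let g' : Over.mk (𝟙 (Spec (CommRingCat.of K))) ⟶ Red.bc s G := g
  obtain ⟨z, hz1, hz2⟩ := exists_central D.pairing_eq m q hq (dn h g')
  have h1 : (dn h g' * z⁻¹) ≫ q = 1 := by
    have h2 := MonObj.mul_comp (dn h g') z⁻¹ q
    have h3 : z⁻¹ ≫ q = (z ≫ q)⁻¹ := GrpObj.inv_comp z q
    rw [h3, hz1] at h2
    exact h2.trans (mul_inv_cancel (dn h g' ≫ q))
  obtain ⟨y, hy⟩ := hker _ _ h1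
  refine ⟨(up h z : Over.mk (𝟙 (Spec (CommRingCat.of K))) ⟶ Red.bc s G),
    (up h y : Over.mk (𝟙 (Spec (CommRingCat.of K))) ⟶ Red.bc s D'), ?_, fun x => ?_⟩
  · have h4 : (up h y ≫ (Over.pullback s).map d) = up h (dn h g' * z⁻¹) := by
      rw [up_comp, hy]
    change g' = (up h y ≫ (Over.pullback s).map d) * up h z
    rw [h4]
    have h5 := up_mul h (dn h g' * z⁻¹) z
    rw [inv_mul_cancel_right, up_dn] at h5
    exact h5
  · let x' : Over.mk (𝟙 (Spec (CommRingCat.of K))) ⟶ Red.bc s G := x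
    have h6 := congrArg (up h) (hz2 (dn h x'))
    have h7 := up_mul h z (dn h x')
    have h8 := up_mul h (dn h x') z
    rw [up_dn] at h7 h8
    exact h7.symm.trans (h6.trans h8)

/-- **The geometric fibres of the kernel are semisimple.** -/
theorem isSemisimpleOver_ker (hq : jOf D.toSplitRed ≫ q = Red.DSmap V (nu D.base))
    (hdq : d ≫ q = 1)
    (hker : ∀ (X : Over V) (x : X ⟶ G), x ≫ q = 1 → ∃ y : X ⟶ D', y ≫ d = x)
    (hcl : IsClosedImmersion d.left) (hsm : Smooth D'.hom)
    (hred : Red.IsReductiveOver K (Red.bc s G)) (hconn : ConnectedSpace (Red.bc s D').left) :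
    Red.IsSemisimpleOver K (Red.bc s D') := by
  have hcl' : IsClosedImmersion ((Over.pullback s).map d).left :=
    SsRankOne.isClosedImmersion_pullback_map s d hcl
  have haffG : IsAffine (Red.bc s G).left := hred.1
  have hsmG : Smooth (Red.bc s G).hom := hred.2.1
  have hsm' : Smooth (Red.bc s D').hom := inferInstanceAs (Smooth (Limits.pullback.snd D'.hom s))
  have haff' : IsAffine (Red.bc s D').left := isAffine_of_isAffineHom ((Over.pullback s).map d).left
  have hd' : IsMonHom ((Over.pullback s).map d : Red.bc s D' ⟶ Red.bc s G) := inferInstance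
  have hdec := exists_decomp D q d s hq hker
  have hnorm : ∀ {U : Over (Spec (CommRingCat.of K))} [GrpObj U] (i : U ⟶ Red.bc s D') [IsMonHom i],
      IsClosedImmersion i.left → Smooth U.hom → AlgGrp.IsNormalHom i →
      AlgGrp.IsNormalHom (N := U) (G := Red.bc s G) (i ≫ (Over.pullback s).map d) := by
    intro U _ i _ hi hU hn
    exact isNormalHom_comp ((Over.pullback s).map d : Red.bc s D' ⟶ Red.bc s G) hcl' hsmG i hi hU hn
      hdec
  refine ⟨⟨haff', hsm', hconn, ?_⟩, ?_⟩
  · intro U _ i _ hi hU hUc hn hno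
    have hcomp : IsClosedImmersion (i ≫ (Over.pullback s).map d).left := by
      rw [Over.comp_left]; infer_instance
    exact hred.2.2.2 U (i ≫ (Over.pullback s).map d) hcomp hU hUc (hnorm i hi hU hn) hno
  · intro T _ i _ hi hn hT
    have hTs : Smooth T.hom := TorusAlgClosed.smooth_of_isTorus hT
    have hcomp : IsClosedImmersion (i ≫ (Over.pullback s).map d).left := by
      rw [Over.comp_left]; infer_instance
    have hn' := hnorm i hi hTs hn
    have hcent := torus_central hred (i ≫ (Over.pullback s).map d) hcomp hn' hT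
    obtain ⟨k₀, hk₀, hk₁⟩ := exists_zsmul D.pairing_eq D.base
    -- a natural number exponent
    have hk : ∀ m : D.M, ∃ β ∈ Submodule.span ℤ (Set.range D.P.root),
        ((k₀.natAbs : ℕ) : ℤ) • m - β ∈ NN D.base := by
      intro m
      obtain ⟨β, hβ, hn⟩ := hk₁ m
      rcases Int.natAbs_eq k₀ with h | h
      · refine ⟨β, hβ, ?_⟩
        rw [← h]
        exact hn
      · refine ⟨-β, Submodule.neg_mem _ hβ, ?_⟩
        have h' : ((k₀.natAbs : ℕ) : ℤ) = -k₀ := by omega
        rw [h', neg_smul, sub_neg_eq_add, neg_add_eq_sub, ← neg_sub]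
        exact Submodule.neg_mem _ hn
    have hkn : k₀.natAbs ≠ 0 := Int.natAbs_ne_zero.mpr hk₀
    have hsepT : IsSeparated T.hom := by
      have := TorusAlgClosed.isAffineHom_of_isTorus hT
      infer_instance
    refine isTrivialGrp_of_points T fun x => ?_
    obtain ⟨n, rfl⟩ := exists_root hT hkn x
    -- the point of `G`
    have h : 𝟙 (Spec (CommRingCat.of K)) ≫ s = s := Category.id_comp s
    let g : Over.mk (𝟙 (Spec (CommRingCat.of K))) ⟶ Red.bc s G := n ≫ i ≫ (Over.pullback s).map d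
    let g' : Over.mk s ⟶ G := dn h g
    have hg' : g' ≫ q = 1 := by
      let y : Over.mk (𝟙 (Spec (CommRingCat.of K))) ⟶ Red.bc s D' := n ≫ i
      have h1 : g' = dn h y ≫ d := by
        rw [← dn_comp]
        rfl
      rw [h1, Category.assoc, hdq, MonObj.comp_one]
    have hgc : ∀ (X' : Over V) (x : X' ⟶ Over.mk s) (h : X' ⟶ G), (x ≫ g') * h = h * (x ≫ g') := by
      intro X' x w
      have hx : x.left ≫ s = X'.hom := Over.w x
      let x₁ : Over.mk X'.hom ⟶ Over.mk s := x
      let w₁ : Over.mk X'.hom ⟶ G := w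
      have h1 : (toUnit (Over.mk x.left) ≫ n ≫ i ≫ (Over.pullback s).map d) * up hx w₁ =
          up hx w₁ * (toUnit (Over.mk x.left) ≫ n ≫ i ≫ (Over.pullback s).map d) :=
        hcent n (Over.mk x.left) (up hx w₁ : Over.mk x.left ⟶ Red.bc s G)
      have h2 : toUnit (Over.mk x.left) ≫ n ≫ i ≫ (Over.pullback s).map d = up hx (x₁ ≫ g') := by
        have h3 : up h g' = g := up_dn h g
        rw [← comp_up h hx x₁ (toUnit (Over.mk x.left)) (by
          have h4 : (toUnit (Over.mk x.left)).left ≫ 𝟙 _ = x.left := Over.w (toUnit (Over.mk x.left))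
          rw [Category.comp_id] at h4
          exact h4.symm), h3]
      rw [h2] at h1
      have h5 := up_mul hx (x₁ ≫ g') w₁
      have h6 := up_mul hx w₁ (x₁ ≫ g')
      exact up_injective hx (h5.trans (h1.trans h6.symm))
    have hpow := pow_eq_one D q hq hk g' hg' hgc
    -- transfer back
    have hmono : Mono ((Over.pullback s).map d : Red.bc s D' ⟶ Red.bc s G) :=
      Books.AlgPtsGrp.mono_of_isClosedImmersion _
    have hmonoi : Mono i := Books.AlgPtsGrp.mono_of_isClosedImmersion i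
    have hcm : Mono (i ≫ (Over.pullback s).map d : T ⟶ Red.bc s G) := mono_comp _ _
    rw [← cancel_mono (i ≫ (Over.pullback s).map d : T ⟶ Red.bc s G)]
    let φ : (𝟙_ (Over (Spec (CommRingCat.of K))) ⟶ T) →*
        (𝟙_ (Over (Spec (CommRingCat.of K))) ⟶ Red.bc s G) :=
      { toFun := fun y => y ≫ i ≫ (Over.pullback s).map d
        map_one' := MonObj.one_comp _
        map_mul' := fun y y' => MonObj.mul_comp y y' _ }
    change φ (n ^ k₀.natAbs) = φ 1
    rw [map_pow, map_one]
    have h7 : g ^ k₀.natAbs = 1 := by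
      apply (upE h G).symm.injective
      rw [map_pow, map_one]
      exact hpow
    exact h7

end main

end Groth.Agent.RedSub.H654.KerSS
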