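import Groth.Agent.RedSub.H654.LocChart
import Groth.Agent.RedSub.H654.KerSS
import Groth.Agent.Sga3B.KerGrp
import Groth.Agent.Sga3B.MT.TorusFam
import Groth.Agent.Sga3B.Parab.RedCover147
import Groth.Agent.Sga3B.Parab.Retr
import Groth.Agent.Sga3B.RedBc892U

/-!
# The coradical and the derived group of a reductive group scheme
-/

set_option autoImplicit false
set_option linter.unusedSectionVars false
universe u

open CategoryTheory MonoidalCategory CartesianMonoidalCategory MonObj GrpObj AlgebraicGeometry Limits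

namespace Groth.Agent.RedSub.H654.Coradical

open Groth.Agent.Sga3B Groth.Agent.Sga3B.PinMod Groth.Agent.Sga3B.PinFinal Groth.Agent.Sga3B.KerGrp
open Groth.Agent.Sga3B.DSPts Groth.Agent.Sga3B.RepDescent
open UnivPt SchemeChar PtBc Kill QuotDesc LocChart

section split

variable {S : Scheme.{u}} {G C : Over S} [GrpObj G] [GrpObj C] (q : G ⟶ C) [IsMonHom q]
  (σ : C ⟶ G) [IsMonHom σ] (hσ : σ ≫ q = 𝟙 C)

include hσ in
/-- the retraction onto the kernel of a split quotient -/
theorem exists_retr : ∃ r : G ⟶ kerObj q, r ≫ kerι q = 𝟙 G * (q ≫ σ)⁻¹ ∧ kerι q ≫ r = 𝟙 _ := by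
  have h1 : (𝟙 G * (q ≫ σ)⁻¹) ≫ q = 1 := by
    rw [MonObj.mul_comp, GrpObj.inv_comp, Category.assoc, hσ, Category.comp_id, Category.id_comp,
      mul_inv_cancel]
  obtain ⟨r, hr⟩ := exists_lift q _ h1
  refine ⟨r, hr, ?_⟩
  rw [← cancel_mono (kerι q), Category.assoc, hr, MonObj.comp_mul, GrpObj.comp_inv,
    ← Category.assoc, kerι_comp, MonObj.one_comp, inv_one, _root_.mul_one, Category.comp_id,
    Category.id_comp]

include hσ in
/-- A quotient with a section which is a homomorphism is smooth. -/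
theorem smooth_of_section [IsAffineHom G.hom] [Smooth G.hom] [IsAffineHom C.hom] :
    Smooth q.left := by
  obtain ⟨r, hr, hkr⟩ := exists_retr q σ hσ
  have haff : IsAffineHom (kerObj q).hom := by
    rw [← Over.w (kerι q)]
    infer_instance
  have hsm : Smooth (kerObj q).hom := Parab.Retr.smooth_of_retract (kerι q) r hkr
  let θinv : kerObj q ⊗ C ⟶ G := (fst _ _ ≫ kerι q) * (snd _ _ ≫ σ)
  have e1 : lift r q ≫ θinv = 𝟙 G := by
    rw [MonObj.comp_mul, lift_fst_assoc, lift_snd_assoc, hr, inv_mul_cancel_right]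
  have e2 : θinv ≫ q = snd _ _ := by
    rw [MonObj.mul_comp, Category.assoc, Category.assoc, hσ, kerι_comp, MonObj.comp_one,
      _root_.one_mul, Category.comp_id]
  have e3 : θinv ≫ r = fst _ _ := by
    rw [← cancel_mono (kerι q), Category.assoc, hr, MonObj.comp_mul, GrpObj.comp_inv,
      ← Category.assoc, e2, Category.comp_id]
    exact mul_inv_cancel_right _ _
  have e4 : θinv ≫ lift r q = 𝟙 _ := by
    apply CartesianMonoidalCategory.hom_ext
    · rw [Category.assoc, lift_fst, e3, Category.id_comp]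
    · rw [Category.assoc, lift_snd, e2, Category.id_comp]
  have h1 : IsIso (lift r q) := ⟨θinv, e1, e4⟩
  have h2 : IsIso (lift r q).left := inferInstanceAs (IsIso ((Over.forget _).map (lift r q)))
  have h3 : Smooth (snd (kerObj q) C).left := by
    change Smooth (pullback.snd (kerObj q).hom C.hom)
    infer_instance
  have h4 : q = lift r q ≫ snd _ _ := (lift_snd _ _).symm
  rw [h4, Over.comp_left]
  infer_instance

end split

variable {S : Scheme.{u}} {G C : Over S} [GrpObj G] [GrpObj C]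

/-- Local description of a quotient by pinned charts. -/
structure LQ (q : G ⟶ C) where
  c : S → PChart G
  hc : ∀ s, s ∈ Set.range (c s).v
  e : ∀ s, Red.bc (c s).v C ≅ Red.DS (Spec (c s).B) (NN (c s).D.base)
  he : ∀ s, IsMonHom (e s).hom
  hq : ∀ s, (Over.pullback (c s).v).map q ≫ (e s).hom = (c s).q

attribute [instance] LQ.he

instance (c : PChart G) : IsMonHom c.σ := by
  have h1 := BorSpan613.isMonHom_DSmap (Spec c.B) c.ρ
  have h2 : IsMonHom (jOf c.D.toSplitRed) := by
    have h10 : IsMonHom c.D.split.inv.hom.hom := inferInstance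
    have h11 : IsMonHom c.D.i := c.D.maximalTorus.1
    infer_instance
  rw [PChart.σ]
  infer_instance

lemma surjective_of_splitEpi {X Y : Over S} (f : X ⟶ Y) (g : Y ⟶ X) (h : g ≫ f = 𝟙 Y) :
    Surjective f.left := by
  refine ⟨fun y => ⟨g.left y, ?_⟩⟩
  rw [← Scheme.Hom.comp_apply, ← Over.comp_left, h]
  rfl

namespace LQ

variable {q : G ⟶ C} (L : LQ q)

include L

lemma isEtCov : Parab.RedCover147.IsEtCov (fun s => (L.c s).v) :=
  Parab.RedCover147.IsEtCov.of_etale _ (fun _ => inferInstance) (fun s => ⟨s, L.hc s⟩)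

/-- The coradical is a torus. -/
theorem isTorus : Red.IsTorus C := by
  refine MT.isTorus_of_family (fun s => (L.c s).v) (fun s => inferInstance)
    (fun s => (L.c s).v.isOpenMap) (fun s => ⟨s, L.hc s⟩) fun s => ?_
  have h1 : Red.IsTorus (Red.DS (Spec (L.c s).B) (NN (L.c s).D.base)) := by
    obtain ⟨E, -⟩ := BorSpan613.exists_iso_DS (Spec (L.c s).B)
      ((Module.finBasis ℤ (NN (L.c s).D.base)).equivFun.symm.toAddEquiv)
    exact BorSpan613.isTorus_of_isSplitTorusWith ⟨E⟩
  exact TorusBc.isTorus_of_iso (Grp.mkIso' (L.e s)).symm h1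

lemma isAffineHom : IsAffineHom C.hom := TorusAlgClosed.isAffineHom_of_isTorus L.isTorus

/-- the section over a chart -/
noncomputable def sec (s : S) : Red.bc (L.c s).v C ⟶ Red.bc (L.c s).v G := (L.e s).hom ≫ (L.c s).σ

lemma map_q (s : S) : ((Over.pullback (L.c s).v).map q : Red.bc (L.c s).v G ⟶ Red.bc (L.c s).v C) =
    (L.c s).q ≫ (L.e s).inv := by
  rw [← L.hq s, Category.assoc, Iso.hom_inv_id, Category.comp_id]

lemma sec_q (s : S) : L.sec s ≫ (Over.pullback (L.c s).v).map q = 𝟙 _ := by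
  rw [map_q L, sec, Category.assoc, ← Category.assoc (L.c s).σ, (L.c s).σq, Category.id_comp,
    Iso.hom_inv_id]

instance (s : S) : IsMonHom (L.sec s) := by
  rw [sec]
  infer_instance

theorem smooth (hG : Red.IsReductive G) [IsMonHom q] : Smooth q.left := by
  refine Parab.EtHom.of_cover @Smooth L.isEtCov.cov q fun s => ?_
  have h1 := RedBc892U.isReductive_bc (L.c s).v hG
  have := h1.1
  have := h1.2.1
  have h2 := L.isAffineHom
  have h3 : IsAffineHom (Red.bc (L.c s).v C).hom := MorphismProperty.pullback_snd _ _ h2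
  exact smooth_of_section ((Over.pullback (L.c s).v).map q : Red.bc (L.c s).v G ⟶ Red.bc (L.c s).v C)
    (L.sec s) (L.sec_q s)

theorem surjective : Surjective q.left := by
  refine ⟨fun x => ?_⟩
  obtain ⟨t, ht⟩ := L.hc (C.hom x)
  obtain ⟨z, hz1, hz2⟩ := Scheme.Pullback.exists_preimage_pullback (f := C.hom)
    (g := (L.c (C.hom x)).v) x t ht.symm
  refine ⟨pullback.fst G.hom (L.c (C.hom x)).v ((L.sec (C.hom x)).left z), ?_⟩
  have h1 : ((L.sec (C.hom x)).left ≫ ((Over.pullback (L.c (C.hom x)).v).map q).left) ≫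
      pullback.fst C.hom (L.c (C.hom x)).v = pullback.fst C.hom (L.c (C.hom x)).v := by
    rw [← Over.comp_left, L.sec_q]
    exact Category.id_comp _
  have h2 : (L.sec (C.hom x)).left ≫ pullback.fst G.hom (L.c (C.hom x)).v ≫ q.left =
      pullback.fst C.hom (L.c (C.hom x)).v := by
    rw [← map_left_fst q, ← Category.assoc]
    exact h1
  have h3 := congrArg (fun f => f z) h2
  simp only [Scheme.Hom.comp_apply] at h3
  rw [h3, hz1]

/-- points killed by the coradical quotient are killed by homomorphisms to commutative groups -/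
theorem kill [IsMonHom q] (A : Over S) [GrpObj A] (hA : ∀ (X : Over S) (x y : X ⟶ A), x * y = y * x)
    (f : G ⟶ A) [IsMonHom f] {X : Over S} (x : X ⟶ G) (hx : x ≫ q = 1) : x ≫ f = 1 := by
  refine hom_ext_cover (T := Over.mk (𝟙 S)) (fun s => Over.mk (L.c s).v)
    (fun s => Over.homMk (L.c s).v (Category.comp_id _)) (fun s => (L.c s).et)
    (fun s => ⟨s, L.hc s⟩) (Over.homMk X.hom (Category.comp_id _)) _ _ ?_
  intro s R p r _
  have hr : r.left ≫ (L.c s).v = R.hom := Over.w r
  let x' : Over.mk R.hom ⟶ G := p ≫ x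
  have hx' : x' ≫ q = 1 := by
    change (p ≫ x) ≫ q = 1
    rw [Category.assoc, hx, MonObj.comp_one]
  have h1 : (up hr x' : Over.mk r.left ⟶ Red.bc (L.c s).v G) ≫ (L.c s).q = 1 := by
    have h0 : (up hr x' : Over.mk r.left ⟶ Red.bc (L.c s).v G) ≫ (Over.pullback (L.c s).v).map q =
        (1 : Over.mk r.left ⟶ Red.bc (L.c s).v C) := by
      rw [up_comp, hx']
      exact up_one hr
    rw [← L.hq s, ← Category.assoc, h0]
    have h3 : IsMonHom (L.e s).hom := L.he s
    exact MonObj.one_comp (L.e s).hom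
  have hH : ∀ (Y : Over (Spec (L.c s).B)) (y z : Y ⟶ Red.bc (L.c s).v A), y * z = z * y := by
    intro Y y z
    let y' : Over.mk Y.hom ⟶ Red.bc (L.c s).v A := y
    let z' : Over.mk Y.hom ⟶ Red.bc (L.c s).v A := z
    have h3 : y' * z' = z' * y' := by
      apply (upE (v := (L.c s).v) (a := Y.hom) rfl A).symm.injective
      rw [map_mul, map_mul]
      exact hA _ _ _
    exact h3
  have h2 := (L.c s).kill (L.c s).v (Red.bc (L.c s).v A) hH
    ((Over.pullback (L.c s).v).map f : Red.bc (L.c s).v G ⟶ Red.bc (L.c s).v A) hr hr x' h1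
  rw [MonObj.comp_one]
  have h4 : up hr (x' ≫ f) = up hr (1 : Over.mk R.hom ⟶ A) := by
    rw [← up_comp]
    exact h2.trans (up_one hr).symm
  have h5 := up_injective hr h4
  rw [← Category.assoc]
  exact h5

theorem comp_eq [IsMonHom q] (A : Over S) [GrpObj A]
    (hA : ∀ (X : Over S) (x y : X ⟶ A), x * y = y * x)
    (f : G ⟶ A) [IsMonHom f] {X : Over S} (x y : X ⟶ G) (h : x ≫ q = y ≫ q) : x ≫ f = y ≫ f := by
  have h1 := L.kill A hA f (x * y⁻¹) (by
    rw [MonObj.mul_comp, GrpObj.inv_comp, h, mul_inv_cancel])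
  rwa [MonObj.mul_comp, GrpObj.inv_comp, mul_inv_eq_one] at h1

/-- the chart of the coradical over a chart of the base -/
noncomputable def cov (s : S) : Over.mk ((Red.bc (L.c s).v C).hom ≫ (L.c s).v) ⟶ C :=
  dn rfl (𝟙 (Over.mk (Red.bc (L.c s).v C).hom) : _ ⟶ (Over.pullback (L.c s).v).obj C)

lemma cov_left (s : S) : (L.cov s).left = pullback.fst C.hom (L.c s).v := by
  rw [cov, dn_left]
  exact Category.id_comp _

/-- the local section -/
noncomputable def lsec (s : S) : Over.mk ((Red.bc (L.c s).v C).hom ≫ (L.c s).v) ⟶ G :=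
  dn rfl (L.sec s : Over.mk (Red.bc (L.c s).v C).hom ⟶ (Over.pullback (L.c s).v).obj G)

lemma lsec_q (s : S) : L.lsec s ≫ q = L.cov s := by
  rw [lsec, ← dn_comp, cov]
  exact congrArg (dn rfl) (L.sec_q s)

/-- **The universal property of the coradical.** -/
theorem existsUnique (hG : Red.IsReductive G) [IsMonHom q] (A : Over S) [GrpObj A]
    (hA : ∀ (X : Over S) (x y : X ⟶ A), x * y = y * x) (f : G ⟶ A) [IsMonHom f] :
    ∃! f' : C ⟶ A, q ≫ f' = f := by
  have hsm := L.smooth hG
  have hsur := L.surjective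
  have hepi : Epi q := by
    have h1 : Epi ((Over.forget S).map q) := by
      change Epi q.left
      exact Flat.epi_of_flat_of_surjective _
    exact (Over.forget S).epi_of_epi_map h1
  obtain ⟨f', hf', -⟩ := isEtSheaf_yoneda A (T := C)
    (fun s : S => Over.mk ((Red.bc (L.c s).v C).hom ≫ (L.c s).v)) L.cov
    (fun s => by
      rw [L.cov_left s]
      infer_instance)
    (fun x => by
      obtain ⟨t, ht⟩ := L.hc (C.hom x)
      obtain ⟨z, hz1, hz2⟩ := Scheme.Pullback.exists_preimage_pullback (f := C.hom)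
        (g := (L.c (C.hom x)).v) x t ht.symm
      refine ⟨C.hom x, z, ?_⟩
      rw [L.cov_left]
      exact hz1)
    (fun s => L.lsec s ≫ f)
    (fun s t R a b hab => by
      change a ≫ L.lsec s ≫ f = b ≫ L.lsec t ≫ f
      rw [← Category.assoc, ← Category.assoc]
      apply L.comp_eq A hA f
      rw [Category.assoc, Category.assoc, L.lsec_q, L.lsec_q]
      exact hab)
  have hf'' : ∀ s, L.cov s ≫ (f' : C ⟶ A) = L.lsec s ≫ f := hf'
  refine ⟨f', ?_, fun g hg => ?_⟩
  · refine hom_ext_cover (T := Over.mk (𝟙 S)) (fun s => Over.mk (L.c s).v)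
      (fun s => Over.homMk (L.c s).v (Category.comp_id _)) (fun s => (L.c s).et)
      (fun s => ⟨s, L.hc s⟩) (Over.homMk G.hom (Category.comp_id _)) _ _ ?_
    intro s R p r _
    have hr : r.left ≫ (L.c s).v = R.hom := Over.w r
    let p' : Over.mk R.hom ⟶ G := p
    let y : Over.mk r.left ⟶ (Over.pullback (L.c s).v).obj C := up hr (p' ≫ q)
    have hy1 : y.left ≫ (Red.bc (L.c s).v C).hom = r.left := Over.w y
    let y₁ : Over.mk r.left ⟶ Over.mk (Red.bc (L.c s).v C).hom := y
    let y₀ : Over.mk R.hom ⟶ Over.mk ((Red.bc (L.c s).v C).hom ≫ (L.c s).v) :=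
      Over.homMk y.left (by
        change y.left ≫ (Red.bc (L.c s).v C).hom ≫ (L.c s).v = R.hom
        rw [← Category.assoc, hy1, hr])
    have h1 : y₀ ≫ L.cov s = p' ≫ q := by
      have h2 := comp_dn (X := C) (v := (L.c s).v) (rfl : (Red.bc (L.c s).v C).hom ≫ (L.c s).v = _)
        hr y₀ y₁ rfl (𝟙 (Over.mk (Red.bc (L.c s).v C).hom))
      rw [Category.comp_id] at h2
      refine h2.trans ?_
      exact dn_up hr (p' ≫ q)
    have h3 : p' ≫ q ≫ (f' : C ⟶ A) = p' ≫ f := by
      rw [← Category.assoc, ← h1, Category.assoc, hf'', ← Category.assoc]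
      apply L.comp_eq A hA f
      rw [Category.assoc, L.lsec_q, h1]
    exact h3
  · rw [← cancel_epi q, hg]
    symm
    refine hom_ext_cover (T := Over.mk (𝟙 S)) (fun s => Over.mk (L.c s).v)
      (fun s => Over.homMk (L.c s).v (Category.comp_id _)) (fun s => (L.c s).et)
      (fun s => ⟨s, L.hc s⟩) (Over.homMk G.hom (Category.comp_id _)) _ _ ?_
    intro s R p r _
    have hr : r.left ≫ (L.c s).v = R.hom := Over.w r
    let p' : Over.mk R.hom ⟶ G := p
    let y : Over.mk r.left ⟶ (Over.pullback (L.c s).v).obj C := up hr (p' ≫ q)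
    have hy1 : y.left ≫ (Red.bc (L.c s).v C).hom = r.left := Over.w y
    let y₁ : Over.mk r.left ⟶ Over.mk (Red.bc (L.c s).v C).hom := y
    let y₀ : Over.mk R.hom ⟶ Over.mk ((Red.bc (L.c s).v C).hom ≫ (L.c s).v) :=
      Over.homMk y.left (by
        change y.left ≫ (Red.bc (L.c s).v C).hom ≫ (L.c s).v = R.hom
        rw [← Category.assoc, hy1, hr])
    have h1 : y₀ ≫ L.cov s = p' ≫ q := by
      have h2 := comp_dn (X := C) (v := (L.c s).v) (rfl : (Red.bc (L.c s).v C).hom ≫ (L.c s).v = _)
        hr y₀ y₁ rfl (𝟙 (Over.mk (Red.bc (L.c s).v C).hom))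
      rw [Category.comp_id] at h2
      refine h2.trans ?_
      exact dn_up hr (p' ≫ q)
    have h3 : p' ≫ q ≫ (f' : C ⟶ A) = p' ≫ f := by
      rw [← Category.assoc, ← h1, Category.assoc, hf'', ← Category.assoc]
      apply L.comp_eq A hA f
      rw [Category.assoc, L.lsec_q, h1]
    exact h3

section ker

variable [IsMonHom q] [GrpObj (kerObj q)] [IsMonHom (kerι q)]

lemma ker_q (s : S) : ((Over.pullback (L.c s).v).map (kerι q) : Red.bc (L.c s).v (kerObj q) ⟶
    Red.bc (L.c s).v G) ≫ (L.c s).q = 1 := by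
  rw [← L.hq s, ← Category.assoc, ← Functor.map_comp, kerι_comp, Functor.map_one]
  exact MonObj.one_comp _

lemma exists_ker (s : S) (X : Over (Spec (L.c s).B)) (x : X ⟶ Red.bc (L.c s).v G)
    (hx : x ≫ (L.c s).q = 1) : ∃ y : X ⟶ Red.bc (L.c s).v (kerObj q),
      y ≫ (Over.pullback (L.c s).v).map (kerι q) = x := by
  let x' : Over.mk X.hom ⟶ Red.bc (L.c s).v G := x
  have h1 : x' ≫ (Over.pullback (L.c s).v).map q = 1 := by
    rw [L.map_q s, ← Category.assoc]
    have h2 : x' ≫ (L.c s).q = 1 := hx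
    rw [h2]
    exact MonObj.one_comp _
  have h3 : dn (v := (L.c s).v) rfl x' ≫ q = 1 := by
    rw [← dn_comp, h1]
    exact dn_one rfl
  obtain ⟨y, hy⟩ := exists_lift q _ h3
  refine ⟨(up (v := (L.c s).v) rfl y : Over.mk X.hom ⟶ Red.bc (L.c s).v (kerObj q)), ?_⟩
  have h4 := up_comp (v := (L.c s).v) (a := X.hom) rfl y (kerι q)
  rw [hy, up_dn] at h4
  exact h4

/-- **The derived group is semisimple.** -/
theorem isSemisimple_ker (hG : Red.IsReductive G) : Red.IsSemisimple (kerObj q) := by
  have hGaff := hG.1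
  have hCaff := L.isAffineHom
  have hsm := L.smooth hG
  have haff : IsAffineHom (kerObj q).hom := by
    rw [← Over.w (kerι q)]
    infer_instance
  have hks : Smooth (kerObj q).hom := by
    change Smooth (pullback.snd q.left _)
    infer_instance
  refine ⟨haff, hks, fun s => ?_⟩
  obtain ⟨y, hy⟩ := L.hc s
  have key : ∀ s', (L.c s).v y = s' →
      Red.IsSemisimpleOver (AlgebraicClosure (S.residueField s')) (Red.geomFibre s' (kerObj q)) := by
    rintro _ rfl
    refine (RedBc892U.isSemisimpleOver_geomFibre_bc_iff (L.c s).v y).1 ?_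
    have hG' := RedBc892U.isReductive_bc (L.c s).v hG
    have hred := hG'.2.2 y
    -- the retraction
    have hr : ∃ r : Red.bc (L.c s).v G ⟶ Red.bc (L.c s).v (kerObj q),
        (Over.pullback (L.c s).v).map (kerι q) ≫ r = 𝟙 _ := by
      have hcl0 : IsClosedImmersion ((Over.pullback (L.c s).v).map (kerι q)).left := inferInstance
      have hmono : Mono ((Over.pullback (L.c s).v).map (kerι q)) := inferInstance
      have h8 : (𝟙 (Red.bc (L.c s).v G) * ((L.c s).q ≫ (L.c s).σ)⁻¹) ≫ (L.c s).q = 1 := by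
        have h9 := MonObj.mul_comp (𝟙 (Red.bc (L.c s).v G)) ((L.c s).q ≫ (L.c s).σ)⁻¹ (L.c s).q
        have h10 : ((L.c s).q ≫ (L.c s).σ)⁻¹ ≫ (L.c s).q =
            (((L.c s).q ≫ (L.c s).σ) ≫ (L.c s).q)⁻¹ := GrpObj.inv_comp _ _
        rw [h10, Category.assoc, (L.c s).σq, Category.comp_id, Category.id_comp] at h9
        exact h9.trans (mul_inv_cancel (L.c s).q)
      obtain ⟨r, hr⟩ := L.exists_ker s _ (𝟙 (Red.bc (L.c s).v G) * ((L.c s).q ≫ (L.c s).σ)⁻¹) h8
      refine ⟨r, ?_⟩
      rw [← cancel_mono ((Over.pullback (L.c s).v).map (kerι q)), Category.assoc, hr]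
      have h5 : ((Over.pullback (L.c s).v).map (kerι q) : Red.bc (L.c s).v (kerObj q) ⟶
          Red.bc (L.c s).v G) ≫ (𝟙 (Red.bc (L.c s).v G) * ((L.c s).q ≫ (L.c s).σ)⁻¹) =
          (Over.pullback (L.c s).v).map (kerι q) := by
        rw [MonObj.comp_mul, GrpObj.comp_inv, ← Category.assoc _ (L.c s).q, L.ker_q s,
          MonObj.one_comp, inv_one, _root_.mul_one, Category.comp_id]
      rw [Category.id_comp]
      exact h5
    obtain ⟨r, hr⟩ := hr
    have hconn : ConnectedSpace (Red.bc (Red.geomPt y) (Red.bc (L.c s).v (kerObj q))).left := by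
      have h6 : ConnectedSpace (Red.bc (Red.geomPt y) (Red.bc (L.c s).v G)).left := hred.2.2.1
      have h7 : Surjective ((Over.pullback (Red.geomPt y)).map r).left :=
        surjective_of_splitEpi _ ((Over.pullback (Red.geomPt y)).map
          ((Over.pullback (L.c s).v).map (kerι q))) (by
            rw [← Functor.map_comp, hr, CategoryTheory.Functor.map_id])
      exact h7.surj.connectedSpace ((Over.pullback (Red.geomPt y)).map r).left.continuous
    exact KerSS.isSemisimpleOver_ker (L.c s).D (L.c s).q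
      ((Over.pullback (L.c s).v).map (kerι q) : Red.bc (L.c s).v (kerObj q) ⟶ Red.bc (L.c s).v G)
      (Red.geomPt y) (L.c s).hqj (L.ker_q s) (L.exists_ker s) inferInstance
      (MorphismProperty.pullback_snd _ _ hks) hred hconn
  exact key s hy

/-- If `G` is semisimple the derived group is everything. -/
theorem isIso_ker (hG : Red.IsSemisimple G) : IsIso (kerι q) := by
  have hCaff := L.isAffineHom
  refine Parab.RedCover147.isIso_of_cover L.isEtCov fun s => ?_
  have hG' := RedBc892U.isSemisimple_bc (L.c s).v hG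
  have hne : Nonempty (Spec (L.c s).B) := by
    obtain ⟨y, -⟩ := L.hc s
    exact ⟨y⟩
  have hsub : Subsingleton (NN (L.c s).D.base) := by
    refine ⟨fun m n => ?_⟩
    have h0 : ∀ m : NN (L.c s).D.base, m = 0 := by
      intro m
      obtain ⟨k, hk, hm⟩ := BorSpan613.exists_zsmul_mem_span (L.c s).D.toSplitRed hG'
        (fun X t ht h => by
          have h1 := (Groth.Agent.S2962.result (L.c s).D.toSplitRed X (t ≫ (L.c s).D.i)).2
            ⟨t, rfl, ht⟩ X (𝟙 X) h
          rwa [Category.id_comp] at h1) (m : (L.c s).D.M)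
      have h2 : k • (m : (L.c s).D.M) = 0 := RootNN.eq_zero_of_mem (b := (L.c s).D.base)
        (L.c s).D.pairing_eq (Submodule.smul_mem _ k m.2) hm
      have h3 : (m : (L.c s).D.M) = 0 := (smul_eq_zero.mp h2).resolve_left hk
      exact Subtype.ext h3
    rw [h0 m, h0 n]
  have hq1 : (L.c s).q = 1 := by
    apply (dsEquiv _ (NN (L.c s).D.base)).symm.injective
    apply MonoidHom.ext
    intro x
    have hx : x = 1 := Subsingleton.elim (α := NN (L.c s).D.base) x.toAdd 0
    rw [hx, map_one, map_one]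
  obtain ⟨y, hy⟩ := L.exists_ker s _ (𝟙 (Red.bc (L.c s).v G)) (by rw [hq1, MonObj.comp_one])
  have hmono : Mono ((Over.pullback (L.c s).v).map (kerι q)) := inferInstance
  refine ⟨y, ?_, hy⟩
  rw [← cancel_mono ((Over.pullback (L.c s).v).map (kerι q)), Category.assoc, hy,
    Category.comp_id, Category.id_comp]

end ker

end LQ

/-- The coradical quotient with its local description. -/
theorem exists_LQ (hG : Red.IsReductive G) : ∃ (C : Over S) (_ : GrpObj C) (q : G ⟶ C),
    IsMonHom q ∧ Nonempty (LQ q) := by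
  obtain ⟨C, hC, q, hq, h⟩ := exists_coradical hG
  choose c hc e he hcomp using h
  exact ⟨C, hC, q, hq, ⟨⟨c, hc, e, he, hcomp⟩⟩⟩

end Groth.Agent.RedSub.H654.Coradical
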