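import Groth.Agent.RedSub.H654.PtBc
import Groth.Agent.Sga3B.RepDescent7
import Groth.Agent.Sga3B.Pts

/-!
# Étale descent of quotients

An `S`-group `G` and, étale-locally on `S`, split quotients `q' : G_V ⟶ C'` (with a section) whose
kernels agree.  Then the quotients descend to a homomorphism `G ⟶ C` over `S`.
-/

set_option autoImplicit false
universe u

open CategoryTheory CategoryTheory.Limits MonoidalCategory CartesianMonoidalCategory MonObj GrpObj
open AlgebraicGeometry Opposite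

namespace Groth.Agent.RedSub.H654.QuotDesc

open PtBc Groth.Agent.Sga3B.RepDescent

section pb

variable {S V : Scheme.{u}} (v : V ⟶ S)

lemma isPullback_map {T T' : Over S} (f : T' ⟶ T) :
    IsPullback ((Over.pullback v).map f).left (pullback.fst T'.hom v) (pullback.fst T.hom v)
      f.left := by
  have h1 : ((Over.pullback v).map f).left ≫ pullback.snd T.hom v = pullback.snd T'.hom v :=
    Over.w ((Over.pullback v).map f)
  have h2 : f.left ≫ T.hom = T'.hom := Over.w f
  refine IsPullback.of_right (h₁₂ := pullback.snd T.hom v) (h₂₂ := T.hom) (v₁₃ := v) ?_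
    (map_left_fst f) (IsPullback.of_hasPullback T.hom v).flip
  rw [h1, h2]
  exact (IsPullback.of_hasPullback T'.hom v).flip

lemma exists_pt {T : Over S} {J : Type u} (T' : J → Over S) (f : ∀ i, T' i ⟶ T)
    (hT : ∀ t : T.left, ∃ (i : J) (t' : (T' i).left), (f i).left t' = t)
    (t : ((Over.pullback v).obj T).left) : ∃ (i : J) (t' : ((Over.pullback v).obj (T' i)).left),
      ((Over.pullback v).map (f i)).left t' = t := by
  obtain ⟨i, t', ht⟩ := hT (pullback.fst T.hom v t)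
  have h := isPullback_map v (f i)
  obtain ⟨z, hz1, hz2⟩ := Scheme.Pullback.exists_preimage_pullback (f := pullback.fst T.hom v)
    (g := (f i).left) t t' ht.symm
  refine ⟨i, h.isoPullback.inv z, ?_⟩
  rw [← Scheme.Hom.comp_apply, h.isoPullback_inv_fst]
  exact hz1

/-- Morphisms out of base changes glue along étale covers. -/
theorem exists_glue_pb (H : Over V) {T : Over S} {J : Type u} (T' : J → Over S) (f : ∀ i, T' i ⟶ T)
    (hf : ∀ i, Etale (f i).left) (hT : ∀ t : T.left, ∃ (i : J) (t' : (T' i).left), (f i).left t' = t)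
    (x : ∀ k, (Over.pullback v).obj (T' k) ⟶ H)
    (hx : ∀ (k l : J) (R : Over S) (a : R ⟶ T' k) (b : R ⟶ T' l), a ≫ f k = b ≫ f l →
      (Over.pullback v).map a ≫ x k = (Over.pullback v).map b ≫ x l) :
    ∃! y : (Over.pullback v).obj T ⟶ H, ∀ k, (Over.pullback v).map (f k) ≫ y = x k := by
  refine isEtSheaf_yoneda H (T := (Over.pullback v).obj T) (fun k => (Over.pullback v).obj (T' k))
    (fun k => (Over.pullback v).map (f k)) (fun k => MorphismProperty.overPullbackMap _ _ (hf k))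
    (exists_pt v T' f hT) x ?_
  intro k l R a b hab
  change a ≫ x k = b ≫ x l
  let R₀ : Over S := Over.mk (R.hom ≫ v)
  let a₀ : Over.mk R.hom ⟶ (Over.pullback v).obj (T' k) := a
  let b₀ : Over.mk R.hom ⟶ (Over.pullback v).obj (T' l) := b
  have h1 : dn rfl a₀ ≫ f k = dn rfl b₀ ≫ f l := by
    rw [← dn_comp, ← dn_comp]
    exact congrArg (dn rfl) hab
  have h2 := hx k l R₀ (dn rfl a₀) (dn rfl b₀) h1
  have h3 : a₀ = up rfl (𝟙 R₀) ≫ (Over.pullback v).map (dn rfl a₀) := by
    rw [up_comp, Category.id_comp, up_dn]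
  have h4 : b₀ = up rfl (𝟙 R₀) ≫ (Over.pullback v).map (dn rfl b₀) := by
    rw [up_comp, Category.id_comp, up_dn]
  change a₀ ≫ x k = b₀ ≫ x l
  rw [h3, h4, Category.assoc, Category.assoc, h2]

end pb

variable {S : Scheme.{u}} {G : Over S} [GrpObj G]

/-- A split quotient of `G` over an étale `S`-scheme. -/
structure QChart (G : Over S) [GrpObj G] where
  V : Scheme.{u}
  v : V ⟶ S
  et : Etale v
  C : Over V
  [grp : GrpObj C]
  q : Red.bc v G ⟶ C
  hq : IsMonHom q
  σ : C ⟶ Red.bc v G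
  σq : σ ≫ q = 𝟙 C
  qa : ∀ U : C.left.Opens, IsCompact (U : Set C.left) → (U : Scheme.{u}).IsQuasiAffine

attribute [instance] QChart.grp QChart.hq QChart.et

namespace QChart

variable (c : QChart G) {T : Scheme.{u}} {τ : T ⟶ S} {a : T ⟶ c.V} (h : a ≫ c.v = τ)

/-- the class of a point -/
noncomputable def cl : (Over.mk τ ⟶ G) →* (Over.mk a ⟶ c.C) :=
  MonoidHom.mk' (fun x => (up h x : Over.mk a ⟶ Red.bc c.v G) ≫ c.q)
    (fun x y => by rw [up_mul, MonObj.mul_comp])

lemma cl_apply (x : Over.mk τ ⟶ G) : c.cl h x = (up h x : Over.mk a ⟶ Red.bc c.v G) ≫ c.q := rfl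

/-- a representative of a class -/
noncomputable def sec (y : Over.mk a ⟶ c.C) : Over.mk τ ⟶ G := dn h (y ≫ c.σ)

@[simp] lemma cl_sec (y : Over.mk a ⟶ c.C) : c.cl h (c.sec h y) = y := by
  rw [cl_apply, sec]
  erw [up_dn]
  rw [Category.assoc, c.σq, Category.comp_id]

lemma comp_cl {T' : Scheme.{u}} {τ' : T' ⟶ S} {a' : T' ⟶ c.V} (h' : a' ≫ c.v = τ')
    (k : Over.mk τ' ⟶ Over.mk τ) (k' : Over.mk a' ⟶ Over.mk a) (hk : k.left = k'.left)
    (x : Over.mk τ ⟶ G) : k' ≫ c.cl h x = c.cl h' (k ≫ x) := by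
  rw [cl_apply, cl_apply, ← comp_up h h' k k' hk, Category.assoc]

lemma comp_sec {T' : Scheme.{u}} {τ' : T' ⟶ S} {a' : T' ⟶ c.V} (h' : a' ≫ c.v = τ')
    (k : Over.mk τ' ⟶ Over.mk τ) (k' : Over.mk a' ⟶ Over.mk a) (hk : k.left = k'.left)
    (y : Over.mk a ⟶ c.C) : k ≫ c.sec h y = c.sec h' (k' ≫ y) := by
  rw [sec, sec, comp_dn h h' k k' hk, Category.assoc]

end QChart

/-- A covering family of split quotients with the same kernels. -/
structure QAtlas (G : Over S) [GrpObj G] where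
  I : Type u
  c : I → QChart G
  cov : ∀ s : S, ∃ i, s ∈ Set.range (c i).v
  ker : ∀ (i j : I) {T : Scheme.{u}} {τ : T ⟶ S} {a : T ⟶ (c i).V} {b : T ⟶ (c j).V}
    (ha : a ≫ (c i).v = τ) (hb : b ≫ (c j).v = τ) (x : Over.mk τ ⟶ G),
    (c i).cl ha x = 1 → (c j).cl hb x = 1

namespace QAtlas

variable (A : QAtlas G)

section tr

variable {i j : A.I} {T : Scheme.{u}} {τ : T ⟶ S} {a : T ⟶ (A.c i).V} {b : T ⟶ (A.c j).V}
    (ha : a ≫ (A.c i).v = τ) (hb : b ≫ (A.c j).v = τ)

lemma cl_eq {x y : Over.mk τ ⟶ G} (h : (A.c i).cl ha x = (A.c i).cl ha y) :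
    (A.c j).cl hb x = (A.c j).cl hb y := by
  rw [← mul_inv_eq_one, ← map_inv, ← map_mul] at h ⊢
  exact A.ker i j ha hb _ h

/-- transition homomorphisms -/
noncomputable def tr : (Over.mk a ⟶ (A.c i).C) →* (Over.mk b ⟶ (A.c j).C) :=
  MonoidHom.mk' (fun y => (A.c j).cl hb ((A.c i).sec ha y)) (fun y y' => by
    rw [← map_mul]
    apply A.cl_eq ha hb
    rw [map_mul, (A.c i).cl_sec, (A.c i).cl_sec, (A.c i).cl_sec])

lemma tr_apply (y : Over.mk a ⟶ (A.c i).C) :
    A.tr ha hb y = (A.c j).cl hb ((A.c i).sec ha y) := rfl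

lemma tr_cl (x : Over.mk τ ⟶ G) : A.tr ha hb ((A.c i).cl ha x) = (A.c j).cl hb x := by
  rw [tr_apply]
  apply A.cl_eq ha hb
  rw [(A.c i).cl_sec]

lemma comp_tr {T' : Scheme.{u}} {τ' : T' ⟶ S} {a' : T' ⟶ (A.c i).V} {b' : T' ⟶ (A.c j).V}
    (ha' : a' ≫ (A.c i).v = τ') (hb' : b' ≫ (A.c j).v = τ') (k : Over.mk τ' ⟶ Over.mk τ)
    (ka : Over.mk a' ⟶ Over.mk a) (kb : Over.mk b' ⟶ Over.mk b) (hka : k.left = ka.left)
    (hkb : k.left = kb.left) (y : Over.mk a ⟶ (A.c i).C) :
    kb ≫ A.tr ha hb y = A.tr ha' hb' (ka ≫ y) := by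
  rw [tr_apply, tr_apply, (A.c j).comp_cl hb hb' k kb hkb, (A.c i).comp_sec ha ha' k ka hka]

end tr

/-- families of morphisms to the local quotients -/
abbrev Fam (T : Over S) : Type u := ∀ i : A.I, (Over.pullback (A.c i).v).obj T ⟶ (A.c i).C

/-- the compatible families -/
def goodSub (T : Over S) : Subgroup (A.Fam T) where
  carrier := {φ | ∀ (i j : A.I) {R : Scheme.{u}} {τ : R ⟶ S} {a : R ⟶ (A.c i).V}
    {b : R ⟶ (A.c j).V} (ha : a ≫ (A.c i).v = τ) (hb : b ≫ (A.c j).v = τ) (x : Over.mk τ ⟶ T),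
    A.tr ha hb (up ha x ≫ φ i) = up hb x ≫ φ j}
  one_mem' i j _ _ _ _ ha hb x := by
    rw [Pi.one_apply, Pi.one_apply, MonObj.comp_one, MonObj.comp_one, map_one]
  mul_mem' {φ ψ} hφ hψ i j _ _ _ _ ha hb x := by
    rw [Pi.mul_apply, Pi.mul_apply, MonObj.comp_mul, MonObj.comp_mul, map_mul, hφ i j ha hb x,
      hψ i j ha hb x]
  inv_mem' {φ} hφ i j _ _ _ _ ha hb x := by
    rw [Pi.inv_apply, Pi.inv_apply, GrpObj.comp_inv, GrpObj.comp_inv, map_inv, hφ i j ha hb x]

lemma mem_goodSub {T : Over S} {φ : A.Fam T} : φ ∈ A.goodSub T ↔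
    ∀ (i j : A.I) {R : Scheme.{u}} {τ : R ⟶ S} {a : R ⟶ (A.c i).V}
    {b : R ⟶ (A.c j).V} (ha : a ≫ (A.c i).v = τ) (hb : b ≫ (A.c j).v = τ) (x : Over.mk τ ⟶ T),
    A.tr ha hb (up ha x ≫ φ i) = up hb x ≫ φ j := Iff.rfl

/-- restriction of families -/
noncomputable def res {T T' : Over S} (f : T' ⟶ T) : A.Fam T →* A.Fam T' :=
  MonoidHom.mk' (fun φ i => (Over.pullback (A.c i).v).map f ≫ φ i) (fun φ ψ => by
    funext i
    exact MonObj.comp_mul _ _ _)

@[simp] lemma res_apply {T T' : Over S} (f : T' ⟶ T) (φ : A.Fam T) (i : A.I) :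
    A.res f φ i = (Over.pullback (A.c i).v).map f ≫ φ i := rfl

lemma res_mem {T T' : Over S} (f : T' ⟶ T) {φ : A.Fam T} (hφ : φ ∈ A.goodSub T) :
    A.res f φ ∈ A.goodSub T' := by
  intro i j R τ a b ha hb x
  have h := hφ i j ha hb (x ≫ f)
  rw [res_apply, res_apply, ← Category.assoc, ← Category.assoc, up_comp, up_comp, h]

/-- restriction of compatible families -/
noncomputable def resG {T T' : Over S} (f : T' ⟶ T) : A.goodSub T →* A.goodSub T' :=
  ((A.res f).comp (A.goodSub T).subtype).codRestrict (A.goodSub T') fun φ => A.res_mem f φ.2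

@[simp] lemma resG_coe {T T' : Over S} (f : T' ⟶ T) (φ : A.goodSub T) (i : A.I) :
    (A.resG f φ).1 i = (Over.pullback (A.c i).v).map f ≫ φ.1 i := rfl

/-- the functor of compatible families -/
noncomputable def FG : (Over S)ᵒᵖ ⥤ GrpCat.{u} where
  obj T := GrpCat.of (A.goodSub T.unop)
  map f := GrpCat.ofHom (A.resG f.unop)
  map_id T := by
    refine GrpCat.hom_ext (MonoidHom.ext fun φ => Subtype.ext (funext fun i => ?_))
    change (Over.pullback (A.c i).v).map (𝟙 T.unop) ≫ φ.1 i = φ.1 i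
    rw [CategoryTheory.Functor.map_id, Category.id_comp]
  map_comp f g := by
    refine GrpCat.hom_ext (MonoidHom.ext fun φ => Subtype.ext (funext fun i => ?_))
    change (Over.pullback (A.c i).v).map (g.unop ≫ f.unop) ≫ φ.1 i =
      (Over.pullback (A.c i).v).map g.unop ≫ (Over.pullback (A.c i).v).map f.unop ≫ φ.1 i
    rw [Functor.map_comp, Category.assoc]

/-- the class of a `T`-point of `G` -/
noncomputable def cls {T : Over S} (g : T ⟶ G) : A.goodSub T :=
  ⟨fun i => ((Over.pullback (A.c i).v).map g : Red.bc (A.c i).v T ⟶ Red.bc (A.c i).v G) ≫ (A.c i).q,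
    fun i j R τ a b ha hb x => by
      change A.tr ha hb (up ha x ≫ (Over.pullback (A.c i).v).map g ≫ (A.c i).q) =
        up hb x ≫ (Over.pullback (A.c j).v).map g ≫ (A.c j).q
      rw [← Category.assoc, ← Category.assoc, up_comp, up_comp]
      exact A.tr_cl ha hb (x ≫ g)⟩

lemma cls_coe {T : Over S} (g : T ⟶ G) (i : A.I) : (A.cls g).1 i =
    ((Over.pullback (A.c i).v).map g : Red.bc (A.c i).v T ⟶ Red.bc (A.c i).v G) ≫ (A.c i).q := rfl

lemma cls_mul {T : Over S} (g h : T ⟶ G) : A.cls (g * h) = A.cls g * A.cls h := by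
  apply Subtype.ext
  funext i
  change (Over.pullback (A.c i).v).map (g * h) ≫ (A.c i).q =
    ((Over.pullback (A.c i).v).map g ≫ (A.c i).q) * ((Over.pullback (A.c i).v).map h ≫ (A.c i).q)
  rw [Functor.map_mul, MonObj.mul_comp]

lemma resG_cls {T T' : Over S} (f : T' ⟶ T) (g : T ⟶ G) : A.resG f (A.cls g) = A.cls (f ≫ g) := by
  apply Subtype.ext
  funext i
  rw [resG_coe, cls_coe, cls_coe, Functor.map_comp, Category.assoc]

/-- the presheaf of sets -/
noncomputable abbrev F : (Over S)ᵒᵖ ⥤ Type u := A.FG ⋙ forget GrpCat.{u}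

theorem isEtSheaf : IsEtSheaf A.F := by
  intro T J T' f hf hT x hx
  let x' : ∀ k, A.goodSub (T' k) := x
  have h1 : ∀ i, ∃! y : (Over.pullback (A.c i).v).obj T ⟶ (A.c i).C, ∀ k,
      (Over.pullback (A.c i).v).map (f k) ≫ y = (x' k).1 i := fun i =>
    exists_glue_pb (A.c i).v (A.c i).C T' f hf hT (fun k => (x' k).1 i) (fun k l R a b hab => by
      have h : A.resG a (x' k) = A.resG b (x' l) := hx k l R a b hab
      exact congrFun (congrArg Subtype.val h) i)
  choose φ hφ hφ' using h1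
  have hgood : φ ∈ A.goodSub T := by
    intro i j R τ a b ha hb x₀
    refine hom_ext_cover (fun k => (Over.pullback (A.c j).v).obj (T' k))
      (fun k => (Over.pullback (A.c j).v).map (f k))
      (fun k => MorphismProperty.overPullbackMap _ _ (hf k)) (exists_pt (A.c j).v T' f hT)
      (up hb x₀) _ _ ?_
    intro k R' p q hpq
    let p₁ : Over.mk R'.hom ⟶ Over.mk b := p
    let q₁ : Over.mk R'.hom ⟶ (Over.pullback (A.c j).v).obj (T' k) := q
    have hp : p.left ≫ b = R'.hom := Over.w p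
    have hτ : p.left ≫ τ = R'.hom ≫ (A.c j).v := by rw [← hb, ← Category.assoc, hp]
    let k₀ : Over.mk (R'.hom ≫ (A.c j).v) ⟶ Over.mk τ := Over.homMk p.left hτ
    have ha' : (p.left ≫ a) ≫ (A.c i).v = R'.hom ≫ (A.c j).v := by rw [Category.assoc, ha, hτ]
    let ka : Over.mk (p.left ≫ a) ⟶ Over.mk a := Over.homMk p.left rfl
    let x'' : Over.mk (R'.hom ≫ (A.c j).v) ⟶ T' k := dn rfl q₁
    have hx0 : k₀ ≫ x₀ = x'' ≫ f k := by
      apply up_injective (rfl : R'.hom ≫ (A.c j).v = _)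
      rw [← comp_up hb rfl k₀ p₁ rfl, ← up_comp, up_dn]
      exact hpq
    have e1 : p₁ ≫ A.tr ha hb (up ha x₀ ≫ φ i) = A.tr ha' rfl (up ha' x'' ≫ (x' k).1 i) := by
      rw [A.comp_tr ha hb ha' rfl k₀ ka p₁ rfl rfl, ← Category.assoc, comp_up ha ha' k₀ ka rfl,
        hx0, ← up_comp, Category.assoc, hφ i k]
    have e2 : p₁ ≫ up hb x₀ ≫ φ j = up rfl x'' ≫ (x' k).1 j := by
      rw [← Category.assoc, comp_up hb rfl k₀ p₁ rfl, hx0, ← up_comp, Category.assoc, hφ j k]
    change p₁ ≫ _ = p₁ ≫ _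
    rw [e1, e2]
    exact (x' k).2 i j ha' rfl x''
  refine ⟨(⟨φ, hgood⟩ : A.goodSub T), fun k => ?_, fun z hz => ?_⟩
  · exact (Subtype.ext (funext fun i => hφ i k) : A.resG (f k) ⟨φ, hgood⟩ = x' k)
  · let z' : A.goodSub T := z
    refine (Subtype.ext (funext fun i => ?_) : z' = ⟨φ, hgood⟩)
    exact hφ' i (z'.1 i) fun k => congrFun (congrArg Subtype.val
      (hz k : A.resG (f k) z' = x' k)) i

section repr

variable (i : A.I)

/-- the local value of a compatible family -/
noncomputable def val (T : Over (A.c i).V) (φ : A.goodSub (Over.mk (T.hom ≫ (A.c i).v))) :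
    Over.mk T.hom ⟶ (A.c i).C := up rfl (𝟙 _) ≫ φ.1 i

lemma val_mul (T : Over (A.c i).V) (φ ψ : A.goodSub (Over.mk (T.hom ≫ (A.c i).v))) :
    A.val i T (φ * ψ) = A.val i T φ * A.val i T ψ := MonObj.comp_mul _ _ _

lemma val_cls (T : Over (A.c i).V) (g : Over.mk (T.hom ≫ (A.c i).v) ⟶ G) :
    A.val i T (A.cls g) = (A.c i).cl rfl g := by
  rw [val, cls_coe, ← Category.assoc, up_comp, Category.id_comp]
  rfl

lemma cls_sec_val (T : Over (A.c i).V) (φ : A.goodSub (Over.mk (T.hom ≫ (A.c i).v))) :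
    A.cls ((A.c i).sec rfl (A.val i T φ)) = φ := by
  apply Subtype.ext
  funext j
  rw [cls_coe]
  apply hom_ext_up
  intro R τ b hb x
  have ha : (x.left ≫ T.hom) ≫ (A.c i).v = τ := (Category.assoc _ _ _).trans (Over.w x)
  let x' : Over.mk (x.left ≫ T.hom) ⟶ Over.mk T.hom := Over.homMk x.left rfl
  have e1 : x ≫ (A.c i).sec rfl (A.val i T φ) = (A.c i).sec ha (x' ≫ A.val i T φ) :=
    (A.c i).comp_sec rfl ha x x' rfl _
  have e2 : x' ≫ A.val i T φ = up ha x ≫ φ.1 i := by
    rw [val, ← Category.assoc, comp_up rfl ha x x' rfl, Category.comp_id]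
  have e3 : up hb x ≫ (Over.pullback (A.c j).v).map ((A.c i).sec rfl (A.val i T φ)) ≫ (A.c j).q =
      (A.c j).cl hb (x ≫ (A.c i).sec rfl (A.val i T φ)) := by
    rw [← Category.assoc, up_comp]
    rfl
  rw [e3, e1, e2]
  exact φ.2 i j ha hb x

/-- the local quotient represents the functor of compatible families -/
noncomputable def reprLoc : ((Over.map (A.c i).v).op ⋙ A.F).RepresentableBy (A.c i).C where
  homEquiv {T} :=
    { toFun := fun c => A.cls (T := Over.mk (T.hom ≫ (A.c i).v))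
        ((A.c i).sec rfl (c : Over.mk T.hom ⟶ (A.c i).C))
      invFun := fun φ => A.val i T φ
      left_inv := fun c => (A.val_cls i T _).trans ((A.c i).cl_sec rfl _)
      right_inv := fun φ => A.cls_sec_val i T φ }
  homEquiv_comp {T T'} f g := by
    let f' : Over.mk T.hom ⟶ Over.mk T'.hom := f
    let f₀ : Over.mk (T.hom ≫ (A.c i).v) ⟶ Over.mk (T'.hom ≫ (A.c i).v) :=
      (Over.map (A.c i).v).map f
    let g' : Over.mk T'.hom ⟶ (A.c i).C := g
    change A.cls (T := Over.mk (T.hom ≫ (A.c i).v)) ((A.c i).sec rfl (f' ≫ g')) =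
      A.resG f₀ (A.cls (T := Over.mk (T'.hom ≫ (A.c i).v)) ((A.c i).sec rfl g'))
    rw [resG_cls, (A.c i).comp_sec rfl rfl f₀ f' rfl]

end repr

end QAtlas

/-- transport of a group structure along a representation -/
theorem exists_grpObj {C : Type*} [Category.{u} C] [CartesianMonoidalCategory C]
    (F : Cᵒᵖ ⥤ GrpCat.{u}) (X : C) (r : (F ⋙ forget GrpCat).RepresentableBy X) :
    ∃ _ : GrpObj X, ∀ (T : C) (x y : T ⟶ X),
      (r.homEquiv (x * y) : F.obj (op T)) = (r.homEquiv x : F.obj (op T)) * r.homEquiv y := by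
  let _ := GrpObj.ofRepresentableBy X F r
  exact ⟨inferInstance, fun T x y =>
    ((yonedaMonObjIsoOfRepresentableBy X (F ⋙ forget₂ GrpCat MonCat) r).hom.app
      (op T)).hom.map_mul x y⟩

namespace QAtlas

variable (A : QAtlas G)

/-- **Étale descent of quotients.** -/
theorem exists_quot : ∃ (C : Over S) (_ : GrpObj C) (q : G ⟶ C), IsMonHom q ∧
    ∀ i, ∃ e : Red.bc (A.c i).v C ≅ (A.c i).C, IsMonHom e.hom ∧
      (Over.pullback (A.c i).v).map q ≫ e.hom = (A.c i).q := by
  obtain ⟨C, ⟨r⟩⟩ := exists_representableBy_of_etale A.isEtSheaf (fun s => by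
    obtain ⟨i, hi⟩ := A.cov s
    exact ⟨_, (A.c i).v, (A.c i).et, hi, (A.c i).C, ⟨A.reprLoc i⟩, (A.c i).qa⟩)
  obtain ⟨hC, hr⟩ := exists_grpObj A.FG C r
  let E : ∀ {T : Over S}, (T ⟶ C) → A.goodSub T := fun {T} x => r.homEquiv x
  have hEinj : ∀ {T : Over S}, Function.Injective (E (T := T)) := fun {T} => r.homEquiv.injective
  have hEmul : ∀ {T : Over S} (x y : T ⟶ C), E (x * y) = E x * E y := fun {T} x y => hr T x y
  have hEcomp : ∀ {T T' : Over S} (f : T ⟶ T') (x : T' ⟶ C), E (f ≫ x) = A.resG f (E x) :=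
    fun {T T'} f x => r.homEquiv_comp f x
  let q : G ⟶ C := r.homEquiv.symm (A.cls (𝟙 G))
  have hq0 : E q = A.cls (𝟙 G) := r.homEquiv.apply_symm_apply _
  have hq : ∀ {T : Over S} (g : T ⟶ G), E (g ≫ q) = A.cls g := by
    intro T g
    rw [hEcomp, hq0, resG_cls, Category.comp_id]
  refine ⟨C, hC, q, ?_, fun i => ?_⟩
  · apply Groth.Agent.Sga3B.Pts.isMonHom_of_points
    intro T x y
    apply hEinj
    rw [hq, hEmul, hq, hq, cls_mul]
  · -- the base change of `C` represents the restricted functor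
    let r' : ((Over.map (A.c i).v).op ⋙ A.F).RepresentableBy (Red.bc (A.c i).v C) :=
      { homEquiv := fun {T} =>
          { toFun := fun y => E (T := Over.mk (T.hom ≫ (A.c i).v))
              (dn rfl (y : Over.mk T.hom ⟶ (Over.pullback (A.c i).v).obj C))
            invFun := fun φ => (up rfl (r.homEquiv.symm φ :
              Over.mk (T.hom ≫ (A.c i).v) ⟶ C) : Over.mk T.hom ⟶ (Over.pullback (A.c i).v).obj C)
            left_inv := fun y => by
              change up rfl (r.homEquiv.symm (r.homEquiv _)) = _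
              rw [Equiv.symm_apply_apply, up_dn]
            right_inv := fun φ => by
              change r.homEquiv (dn rfl (up rfl _)) = _
              rw [dn_up, Equiv.apply_symm_apply] }
        homEquiv_comp := fun {T T'} f g => by
          let f' : Over.mk T.hom ⟶ Over.mk T'.hom := f
          let f₀ : Over.mk (T.hom ≫ (A.c i).v) ⟶ Over.mk (T'.hom ≫ (A.c i).v) :=
            (Over.map (A.c i).v).map f
          let g' : Over.mk T'.hom ⟶ (Over.pullback (A.c i).v).obj C := g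
          change E (dn rfl (f' ≫ g')) = A.resG f₀ (E (dn rfl g'))
          rw [← hEcomp, comp_dn rfl rfl f₀ f' rfl] }
    let e : Red.bc (A.c i).v C ≅ (A.c i).C := r'.uniqueUpToIso (A.reprLoc i)
    have he : ∀ {T : Over (A.c i).V} (y : T ⟶ Red.bc (A.c i).v C), y ≫ e.hom =
        A.val i T (E (T := Over.mk (T.hom ≫ (A.c i).v))
          (dn rfl (y : Over.mk T.hom ⟶ (Over.pullback (A.c i).v).obj C))) := by
      intro T y
      have h1 : e.hom = (A.reprLoc i).homEquiv.symm (r'.homEquiv (𝟙 _)) := rfl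
      rw [h1, Functor.RepresentableBy.comp_homEquiv_symm, ← r'.homEquiv_comp, Category.comp_id]
      rfl
    refine ⟨e, ?_, ?_⟩
    · apply Groth.Agent.Sga3B.Pts.isMonHom_of_points
      intro T x y
      rw [he, he, he, ← val_mul, ← hEmul]
      congr 2
      exact dn_mul rfl (x : Over.mk T.hom ⟶ Red.bc (A.c i).v C) y
    · -- test on points
      have key : ∀ {T : Over (A.c i).V} (y : T ⟶ Red.bc (A.c i).v G),
          y ≫ (Over.pullback (A.c i).v).map q ≫ e.hom = y ≫ (A.c i).q := by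
        intro T y
        let y' : Over.mk T.hom ⟶ Red.bc (A.c i).v G := y
        have h1 : E (T := Over.mk (T.hom ≫ (A.c i).v))
            (dn rfl (y' ≫ (Over.pullback (A.c i).v).map q)) = A.cls (dn rfl y') := by
          rw [dn_comp]
          exact hq (dn rfl y')
        rw [← Category.assoc, he]
        refine (congrArg (A.val i T) h1).trans ?_
        rw [val_cls, QChart.cl_apply]
        exact congrArg (· ≫ (A.c i).q) (up_dn rfl y')
      have h2 := key (𝟙 (Red.bc (A.c i).v G))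
      rw [Category.id_comp, Category.id_comp] at h2
      exact h2

end QAtlas

end Groth.Agent.RedSub.H654.QuotDesc
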