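import Groth.Agent.RedSub.H654.Kill
import Groth.Agent.RedSub.H654.QuotDesc
import Groth.Agent.Sga3B.IsomPin848
import Groth.Agent.Sga3B.SplitFin885

/-!
# The local quotients of a reductive group by its derived group
-/

set_option autoImplicit false
set_option linter.unusedSectionVars false
universe u

open CategoryTheory MonoidalCategory CartesianMonoidalCategory MonObj GrpObj AlgebraicGeometry Limits

namespace Groth.Agent.RedSub.H654.LocChart

open Groth.Agent.Sga3B Groth.Agent.Sga3B.PinMod Groth.Agent.Sga3B.PinFinal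
open UnivPt SchemeChar PtBc Kill QuotDesc

section retraction

variable {idx M : Type} [Fintype idx] [AddCommGroup M] [Module.Free ℤ M]
    [Module.Finite ℤ M] {P : RootPairing idx ℤ M (Module.Dual ℤ M)} (b : P.Base)

/-- `NN b` is a direct summand -/
theorem exists_retraction : ∃ ρ : M →+ NN b, ρ.comp (nu b) = AddMonoidHom.id (NN b) := by
  have : Module.Projective ℤ (LinearMap.range (corL b)) := inferInstance
  obtain ⟨h, hh⟩ := Module.projective_lifting_property (corL b).rangeRestrict
    (LinearMap.id : LinearMap.range (corL b) →ₗ[ℤ] LinearMap.range (corL b))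
    (LinearMap.surjective_rangeRestrict _)
  let p : M →ₗ[ℤ] M := LinearMap.id - h.comp (corL b).rangeRestrict
  have hp : ∀ m, p m ∈ NN b := by
    intro m
    rw [← corL_eq_zero_iff]
    have h1 : (corL b).rangeRestrict (h ((corL b).rangeRestrict m)) = (corL b).rangeRestrict m :=
      LinearMap.congr_fun hh ((corL b).rangeRestrict m)
    have h2 : corL b (h ((corL b).rangeRestrict m)) = corL b m := congrArg Subtype.val h1
    change corL b (m - h ((corL b).rangeRestrict m)) = 0
    rw [map_sub, h2, sub_self]
  refine ⟨(p.codRestrict (NN b) hp).toAddMonoidHom, ?_⟩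
  ext n
  change (n : M) - h ((corL b).rangeRestrict (n : M)) = n
  have h3 : (corL b).rangeRestrict (n : M) = 0 := Subtype.ext ((corL_eq_zero_iff (b := b) (n : M)).mpr n.2)
  rw [h3, map_zero, sub_zero]

end retraction

variable {S : Scheme.{u}}

/-- a pinned chart of a group, with the character to the torus of coradical characters -/
structure PChart (G : Over S) [GrpObj G] where
  B : CommRingCat.{u}
  v : Spec B ⟶ S
  et : Etale v
  D : Red.Pinning (Red.bc v G)
  q : Red.bc v G ⟶ Red.DS (Spec B) (NN D.base)
  hq : IsMonHom q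
  hqj : jOf D.toSplitRed ≫ q = Red.DSmap (Spec B) (nu D.base)

attribute [instance] PChart.hq PChart.et

variable {G : Over S} [GrpObj G]

/-- a pinned group has a character to the torus of coradical characters -/
theorem exists_q (D : Red.Pinning G) : ∃ q : G ⟶ Red.DS S (NN D.base), IsMonHom q ∧
    jOf D.toSplitRed ≫ q = Red.DSmap S (nu D.base) :=
  exists_char_of_models (fun R _ s => PinModelOf.nonempty_pinModel D R s) (nu D.base) (coroot_nu)

/-- charts exist -/
theorem exists_pchart (hG : Red.IsReductive G) (s : S) : ∃ c : PChart G, s ∈ Set.range c.v := by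
  obtain ⟨B, v, hv, hs, ⟨D⟩, -⟩ := IsomPin848.exists_pinning_pair
    (fun G _ hG s => SplitFin885.splitNear G hG s) hG hG s
  obtain ⟨q, hq, hqj⟩ := exists_q D
  exact ⟨⟨B, v, hv, D, q, hq, hqj⟩, hs⟩

/-- the affineness of diagonalizable groups -/
instance isAffineHom_DS (S : Scheme.{u}) (N : Type) [AddCommGroup N] :
    IsAffineHom (Red.DS S N).hom := by
  have h : IsAffineHom (Red.diag (ULift.{u} ℤ) N).hom := by
    change IsAffineHom (Spec.map _)
    infer_instance
  exact MorphismProperty.pullback_snd _ _ h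

/-- quasi-compact opens of affine schemes are quasi-affine -/
lemma isQuasiAffine_open {X : Scheme.{u}} [IsAffine X] (U : X.Opens) (hU : IsCompact (U : Set X)) :
    (U : Scheme.{u}).IsQuasiAffine := by
  have : CompactSpace U := isCompact_iff_compactSpace.1 hU
  exact Scheme.IsQuasiAffine.of_isImmersion U.ι

namespace PChart

variable (c : PChart G)

/-- a retraction of the coradical characters -/
noncomputable def ρ : c.D.M →+ NN c.D.base := (exists_retraction c.D.base).choose

lemma ρ_spec : c.ρ.comp (nu c.D.base) = AddMonoidHom.id _ := (exists_retraction c.D.base).choose_spec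

/-- the section -/
noncomputable def σ : Red.DS (Spec c.B) (NN c.D.base) ⟶ Red.bc c.v G :=
  Red.DSmap (Spec c.B) c.ρ ≫ jOf c.D.toSplitRed

lemma σq : c.σ ≫ c.q = 𝟙 _ := by
  rw [σ, Category.assoc, c.hqj, BorSpan613.DSmap_comp_DSmap, c.ρ_spec, BorSpan613.DSmap_id]

/-- the underlying chart of a quotient -/
noncomputable def toQChart : QChart G where
  V := Spec c.B
  v := c.v
  et := c.et
  C := Red.DS (Spec c.B) (NN c.D.base)
  q := c.q
  hq := c.hq
  σ := c.σ
  σq := c.σq
  qa := by
    have : IsAffine (Red.DS (Spec c.B) (NN c.D.base)).left :=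
      isAffine_of_isAffineHom (Red.DS (Spec c.B) (NN c.D.base)).hom
    exact isQuasiAffine_open

/-- killing for charts -/
theorem kill {W : Scheme.{u}} (w : W ⟶ S) (H : Over W) [GrpObj H]
    (hH : ∀ (X : Over W) (x y : X ⟶ H), x * y = y * x) (f : Red.bc w G ⟶ H) [IsMonHom f]
    {T : Scheme.{u}} {τ : T ⟶ S} {a : T ⟶ Spec c.B} (ha : a ≫ c.v = τ) {e : T ⟶ W}
    (he : e ≫ w = τ) (x : Over.mk τ ⟶ G)
    (hx : (up ha x : Over.mk a ⟶ Red.bc c.v G) ≫ c.q = 1) :
    (up he x : Over.mk e ⟶ Red.bc w G) ≫ f = 1 :=
  Kill.kill c.v w G (fun R _ s => PinModelOf.nonempty_pinModel c.D R s) c.q c.hqj H hH f ha he x hx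

end PChart

/-- The atlas of local coradical quotients of a reductive group. -/
noncomputable def atlas (hG : Red.IsReductive G) : QAtlas G where
  I := S
  c s := (exists_pchart hG s).choose.toQChart
  cov s := ⟨s, (exists_pchart hG s).choose_spec⟩
  ker s t _ _ _ _ ha hb x hx :=
    (exists_pchart hG s).choose.kill _ _ (ds_comm _ _) (exists_pchart hG t).choose.q ha hb x hx

/-- **The coradical quotient.** -/
theorem exists_coradical (hG : Red.IsReductive G) : ∃ (C : Over S) (_ : GrpObj C) (q : G ⟶ C),
    IsMonHom q ∧ ∀ s : S, ∃ c : PChart G, s ∈ Set.range c.v ∧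
      ∃ e : Red.bc c.v C ≅ Red.DS (Spec c.B) (NN c.D.base), IsMonHom e.hom ∧
        (Over.pullback c.v).map q ≫ e.hom = c.q := by
  obtain ⟨C, hC, q, hq, h⟩ := (atlas hG).exists_quot
  refine ⟨C, hC, q, hq, fun s => ⟨(exists_pchart hG s).choose, (exists_pchart hG s).choose_spec, ?_⟩⟩
  exact h s

end Groth.Agent.RedSub.H654.LocChart
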