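import Groth.Agent.RedSub.H654.TruncProj
import Groth.Agent.RedSub.H660.ChartPts
import Groth.Agent.RedSub.H646.DeltaSch
import Groth.Agent.RedSub.H646.ProjDesc
import Groth.Agent.Sga3B.MT.MemOps

/-!
# The class of members of rank `d`

`K : AffChart (𝟙 (Spec R)) G A`, `bs` generators of `A / aug ^ (n + 1)`, `𝒬` a class of smooth closed subgroups of the
base changes of `G`.  `cls K bs 𝒬 d` : the members `h` of `𝒬` such that the infinitesimal neighbourhoods of the unit
section of order `n` in the fibres of `h` have rank `d`.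

* `cls_isLocal` : étale local if `𝒬` is; `hasRank` : `HasRank K (cls K bs 𝒬 d) bs w d`;
* `cls_cj` : stable under conjugation if `𝒬` is; `cls_disj`, `cls_cov` : the classes are disjoint and cover `𝒬`.
-/

set_option autoImplicit false
universe u

open CategoryTheory CategoryTheory.Limits AlgebraicGeometry Opposite MonoidalCategory CartesianMonoidalCategory
  MonObj GrpObj
open TensorProduct
open Groth.Agent.Sga3B.Cell

namespace Groth.Agent.RedSub.H654.RankClass

open Groth.Agent.RedSub.H647.SubPt Groth.Agent.RedSub.H647.SubF Groth.Agent.RedSub.H647.SubF.SubClass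
  Groth.Agent.RedSub.H646.DeltaRing Groth.Agent.RedSub.H646.InfPt Groth.Agent.RedSub.H646.PtsRep
  Groth.Agent.RedSub.H646.DeltaSch Groth.Agent.RedSub.H646.ProjDesc Groth.Agent.RedSub.H660.ChartPts
  Groth.Agent.RedSub.H654.TruncProj
  Groth.Agent.Sga3B Groth.Agent.Sga3B.BcPts Groth.Agent.Sga3B.MT
open Groth.Agent.Books.AffBridge
open Groth.Agent.Fga.GrassBasic

section algebra

variable {B : Type u} [CommRing B] {J : Type} [Fintype J]

/-- The rank of a projective quotient at a prime is seen on a field. -/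
theorem rankAtStalk_eq {L : Submodule B (J → B)} (hL : Module.Projective B ((J → B) ⧸ L)) {k : Type u} [Field k]
    (φ : B →+* k) {d : ℕ} (h : IsQuotRank d (bc φ L)) :
    Module.rankAtStalk (R := B) ((J → B) ⧸ L) (PrimeSpectrum.comap φ ⊥) = d := by
  let _ := φ.toAlgebra
  have h1 := isBaseChange_quotMap (C := k) (piMap B k J) (isBaseChange_piMap B k J) L
  have h2 := h.rank ⊥
  rw [← h2]
  have h3 : PrimeSpectrum.comap φ ⊥ = PrimeSpectrum.comap (algebraMap B k) ⊥ := rfl
  rw [h3, ← Module.rankAtStalk_baseChange, Module.rankAtStalk_eq_of_equiv h1.equiv]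
  rfl

theorem isQuotRank_bc_field {L : Submodule B (J → B)} (hL : Module.Projective B ((J → B) ⧸ L)) {k : Type u} [Field k]
    (φ : B →+* k) {d : ℕ} (h : Module.rankAtStalk (R := B) ((J → B) ⧸ L) (PrimeSpectrum.comap φ ⊥) = d) :
    IsQuotRank d (bc φ L) := by
  refine ⟨inferInstance, fun p => ?_⟩
  obtain rfl : p = ⊥ := Subsingleton.elim _ _
  let _ := φ.toAlgebra
  have h1 := isBaseChange_quotMap (C := k) (piMap B k J) (isBaseChange_piMap B k J) L
  rw [← h]
  have h3 : PrimeSpectrum.comap φ ⊥ = PrimeSpectrum.comap (algebraMap B k) ⊥ := rfl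
  rw [h3, ← Module.rankAtStalk_baseChange, Module.rankAtStalk_eq_of_equiv h1.equiv]
  rfl

theorem isQuotRank_of_residueField {L : Submodule B (J → B)} (hL : Module.Projective B ((J → B) ⧸ L)) {d : ℕ}
    (h : ∀ p : PrimeSpectrum B, IsQuotRank d (bc (algebraMap B p.asIdeal.ResidueField) L)) : IsQuotRank d L := by
  refine ⟨hL, fun p => ?_⟩
  have h1 := rankAtStalk_eq hL (algebraMap B p.asIdeal.ResidueField) (h p)
  have h2 : PrimeSpectrum.comap (algebraMap B p.asIdeal.ResidueField) ⊥ = p := by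
    apply PrimeSpectrum.ext
    change (⊥ : Ideal p.asIdeal.ResidueField).comap (algebraMap B p.asIdeal.ResidueField) = p.asIdeal
    rw [← RingHom.ker_eq_comap_bot]
    exact Ideal.ker_algebraMap_residueField _
  rwa [h2] at h1

theorem isQuotRank_of_field {k k' : Type u} [Field k] [Field k'] (ψ : k →+* k') {L : Submodule k (J → k)} {d : ℕ}
    (h : IsQuotRank d (bc ψ L)) : IsQuotRank d L := by
  let _ := ψ.toAlgebra
  exact isQuotRank_of_faithfullyFlat' (C := k') L h

omit [Fintype J] in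
theorem isQuotRank_unique {k : Type u} [Field k] {L : Submodule k (J → k)} {d d' : ℕ} (h : IsQuotRank d L)
    (h' : IsQuotRank d' L) : d = d' := (h.rank ⊥).symm.trans (h'.rank ⊥)

theorem isQuotRank_le {k : Type u} [Field k] {L : Submodule k (J → k)} {d : ℕ} (h : IsQuotRank d L) :
    d ≤ Fintype.card J := by
  have h1 := h.rank ⊥
  rw [Module.rankAtStalk_eq_finrank_of_free] at h1
  have h2 : Module.finrank k ((J → k) ⧸ L) ≤ Module.finrank k (J → k) := Submodule.finrank_quotient_le L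
  rw [Module.finrank_fintype_fun_eq_card] at h2
  rw [← h1]
  exact h2

end algebra

variable {R : Type u} [CommRing R] {G : Over (Spec (CommRingCat.of R))} [GrpObj G]
  {A : Type u} [CommRing A] [Algebra R A] [PtGrp R A]
  (K : AffChart (𝟙 (Spec (CommRingCat.of R))) G A)
  {n : ℕ} {J : Type} [Fintype J] (bs : Gen J R (Wn R A n))

section member

variable {S' : Scheme.{u}} {f : S' ⟶ Spec (CommRingCat.of R)} {H : Over S'} {h : H ⟶ Red.bc f G}
  {B : Type u} [CommRing B] [Algebra R B]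

/-- `Spec C` over `Spec R` -/
noncomputable abbrev SpR (C : Type u) [CommRing C] [Algebra R C] : Over (Spec (CommRingCat.of R)) :=
  (Over.map (𝟙 (Spec (CommRingCat.of R)))).obj (SpecOver R C)

/-- a point of `S'` over `Spec R` -/
noncomputable def toS (c : Spec (CommRingCat.of B) ⟶ S')
    (hc : c ≫ f = sp (algebraMap R B) ≫ 𝟙 (Spec (CommRingCat.of R))) {C : Type u} [CommRing C] [Algebra R C]
    (φ : B →ₐ[R] C) : SpR (R := R) C ⟶ Over.mk f :=
  Over.homMk (sp φ.toRingHom ≫ c) (by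
    change (sp φ.toRingHom ≫ c) ≫ f = sp (algebraMap R C) ≫ 𝟙 _
    rw [Category.assoc, hc, ← Category.assoc, ← sp_comp]
    have h2 : φ.toRingHom.comp (algebraMap R B) = algebraMap R C := φ.comp_algebraMap
    rw [h2])

theorem condC_iff_memAt (c : Spec (CommRingCat.of B) ⟶ S')
    (hc : c ≫ f = sp (algebraMap R B) ≫ 𝟙 (Spec (CommRingCat.of R))) {C : Type u} [CommRing C] [Algebra R C]
    (φ : B →ₐ[R] C) (a : A →ₐ[R] C) : condC K h c C φ a ↔ MemAt h (toS c hc φ) (K.pt C (Cell.Pt.mk a)) :=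
  (memAt_iff_pt h (toS c hc φ) (K.pt C (Cell.Pt.mk a))).symm

theorem condC_one [GrpObj H] [IsMonHom h] (c : Spec (CommRingCat.of B) ⟶ S')
    (hc : c ≫ f = sp (algebraMap R B) ≫ 𝟙 (Spec (CommRingCat.of R))) :
    condC K h c B (AlgHom.id R B) (1 : Cell.Pt R A B).hom := by
  rw [condC_iff_memAt K c hc]
  have h1 : K.pt B (Cell.Pt.mk (1 : Cell.Pt R A B).hom) = 1 := map_one (K.pt B)
  rw [h1]
  exact MemAt.one _

/-- Infinitesimal neighbourhoods of the unit section are projective. -/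
theorem projective_condC [IsAffineHom G.hom] [GrpObj H] [IsMonHom h] [IsClosedImmersion h.left] [Smooth H.hom]
    (c : Spec (CommRingCat.of B) ⟶ S')
    (hc : c ≫ f = sp (algebraMap R B) ≫ 𝟙 (Spec (CommRingCat.of R))) :
    Module.Projective B ((J → B) ⧸ Lsub bs (trunc n (condC K h c))) := by
  obtain ⟨I, hI, j, hj⟩ := exists_rep (h := h) K c hc
  have := smooth_of_isPullback hj
  exact projective_quot_Lsub hI (condC_one K c hc) bs

theorem Lsub_condC_bc [IsAffineHom G.hom] [IsClosedImmersion h.left] (c : Spec (CommRingCat.of B) ⟶ S')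
    (hc : c ≫ f = sp (algebraMap R B) ≫ 𝟙 (Spec (CommRingCat.of R))) {C : Type u} [CommRing C] [Algebra R C]
    (ψ : B →ₐ[R] C) : Lsub bs (trunc n (condC K h (sp ψ.toRingHom ≫ c))) =
      bc (ψ : B →+* C) (Lsub bs (trunc n (condC K h c))) := by
  obtain ⟨I, hI, -⟩ := exists_rep (h := h) K c hc
  rw [condC_bc, trunc_bc, Lsub_bc (IsRep.trunc hI n)]

end member

/-- The fibres have rank `d`. -/
def RankF (d : ℕ) {S' : Scheme.{u}} {f : S' ⟶ Spec (CommRingCat.of R)} {H : Over S'} (h : H ⟶ Red.bc f G) : Prop :=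
  ∀ (k : Type u) [Field k] [Algebra R k] (c : Spec (CommRingCat.of k) ⟶ S'),
    c ≫ f = sp (algebraMap R k) ≫ 𝟙 (Spec (CommRingCat.of R)) → IsQuotRank d (Lsub bs (trunc n (condC K h c)))

section RankF

variable {K bs} {d : ℕ} {S' : Scheme.{u}} {f : S' ⟶ Spec (CommRingCat.of R)} {H : Over S'} {h : H ⟶ Red.bc f G}

theorem RankF.isQuotRank [IsAffineHom G.hom] [GrpObj H] [IsMonHom h] [IsClosedImmersion h.left] [Smooth H.hom]
    (hr : RankF K bs d h) {B : Type u} [CommRing B] [Algebra R B] (c : Spec (CommRingCat.of B) ⟶ S')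
    (hc : c ≫ f = sp (algebraMap R B) ≫ 𝟙 (Spec (CommRingCat.of R))) :
    IsQuotRank d (Lsub bs (trunc n (condC K h c))) := by
  refine isQuotRank_of_residueField (projective_condC K bs c hc) fun p => ?_
  have h1 := Lsub_condC_bc K bs (h := h) c hc (IsScalarTower.toAlgHom R B p.asIdeal.ResidueField)
  have h2 : bc (algebraMap B p.asIdeal.ResidueField) (Lsub bs (trunc n (condC K h c))) =
      bc ((IsScalarTower.toAlgHom R B p.asIdeal.ResidueField : B →ₐ[R] p.asIdeal.ResidueField) :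
        B →+* p.asIdeal.ResidueField) (Lsub bs (trunc n (condC K h c))) := rfl
  rw [h2, ← h1]
  exact hr _ _ (Over.w (toS c hc (IsScalarTower.toAlgHom R B p.asIdeal.ResidueField)))

theorem RankF.bcSub {S'' : Scheme.{u}} (q : S'' ⟶ S') (hr : RankF K bs d h) : RankF K bs d (MT.bcSub q h) := by
  intro k _ _ c hc
  rw [condC_bcSub]
  exact hr k (c ≫ q) (by rw [Category.assoc, hc])

theorem RankF.congr {H' : Over S'} {h' : H' ⟶ Red.bc f G}
    (e : ∀ (X : Scheme.{u}) (y : X ⟶ S') (a : X ⟶ G.left), H647.SubPt.Pt h y a ↔ H647.SubPt.Pt h' y a)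
    (hr : RankF K bs d h) : RankF K bs d h' := by
  intro k _ _ c hc
  rw [← condC_congr K h e]
  exact hr k c hc

/-- Étale (or just pointwise surjective) covers detect the rank. -/
theorem RankF.of_cover [IsAffineHom G.hom] [IsClosedImmersion h.left] {ι' : Type u} {S'' : ι' → Scheme.{u}}
    (q : ∀ i, S'' i ⟶ S') (hq : ∀ y : S', ∃ (i : ι') (y' : S'' i), q i y' = y)
    (hr : ∀ i, RankF K bs d (MT.bcSub (q i) h)) : RankF K bs d h := by
  intro k _ _ c hc
  obtain ⟨i, y', hy'⟩ := hq (c (IsLocalRing.closedPoint k))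
  obtain ⟨w, -, -⟩ := Scheme.Pullback.exists_preimage_pullback (f := c) (g := q i) (IsLocalRing.closedPoint k) y' hy'.symm
  let W := pullback c (q i)
  let k' : Type u := W.residueField w
  let x : Spec (CommRingCat.of k') ⟶ W := W.fromSpecResidueField w
  obtain ⟨ψ, hψ⟩ := exists_sp (x ≫ pullback.fst c (q i))
  let _ : Algebra R k' := (ψ.comp (algebraMap R k)).toAlgebra
  let ψ' : k →ₐ[R] k' := { ψ with commutes' := fun r => rfl }
  have h1 : (x ≫ pullback.snd c (q i)) ≫ q i = sp ψ'.toRingHom ≫ c := by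
    rw [Category.assoc, ← pullback.condition, ← Category.assoc]
    exact congrArg (· ≫ c) hψ.symm
  have h2 := hr i k' (x ≫ pullback.snd c (q i)) (by
    rw [← Category.assoc, h1, Category.assoc, hc, ← Category.assoc, ← sp_comp])
  rw [condC_bcSub, h1, Lsub_condC_bc K bs c hc] at h2
  exact isQuotRank_of_field _ h2

theorem RankF.comp_cj [IsAffineHom G.hom] [IsClosedImmersion h.left] (g₀ : Over.mk f ⟶ G) (hr : RankF K bs d h) :
    RankF K bs d (h ≫ MT.cj g₀) := by
  intro k _ _ c hc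
  obtain ⟨g, hg⟩ := exists_ptL K (C := k) (c ≫ g₀.left) (by
    rw [Category.assoc]
    exact (congrArg (c ≫ ·) (Over.w g₀)).trans hc)
  obtain ⟨I, hI, -⟩ := exists_rep (h := h) K c hc
  have key : condC K (h ≫ MT.cj g₀) c = conjE (condC K h c) (AlgHom.id R k) g := by
    funext C _ _ φ a
    apply propext
    have e1 : toS c hc φ ≫ g₀ = K.pt C (Cell.Pt.map φ g) := by
      apply Over.OverMorphism.ext
      change (sp φ.toRingHom ≫ c) ≫ g₀.left = ptL K (Cell.Pt.map φ g)
      rw [ptL_map, hg, Category.assoc]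
    rw [condC_iff_memAt K c hc, memAt_comp_cj, e1, ← map_inv, ← map_mul, ← map_mul]
    exact (condC_iff_memAt K c hc φ ((Cell.Pt.map φ g)⁻¹ * Cell.Pt.mk a * Cell.Pt.map φ g).hom).symm
  rw [key]
  exact isQuotRank_conjE hI bs (hr k c hc) _ _

theorem exists_rank_at [IsAffineHom G.hom] [GrpObj H] [IsMonHom h] [IsClosedImmersion h.left] [Smooth H.hom]
    (s : S') : ∃ d ≤ Fintype.card J, ∃ U : S'.Opens, s ∈ U ∧ RankF K bs d (MT.bcSub U.ι h) := by
  obtain ⟨_, ⟨V, hV, rfl⟩, hs, -⟩ := S'.isBasis_affineOpens.exists_subset_of_mem_open (Set.mem_univ s) isOpen_univ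
  have hV : IsAffineOpen V := hV
  let B : Type u := Γ(S', V)
  let c : Spec (CommRingCat.of B) ⟶ S' := hV.fromSpec
  have hci : IsOpenImmersion c := inferInstanceAs (IsOpenImmersion hV.fromSpec)
  obtain ⟨ρ, hρ⟩ := exists_sp (c ≫ f)
  let _ : Algebra R B := ρ.toAlgebra
  have hc : c ≫ f = sp (algebraMap R B) ≫ 𝟙 (Spec (CommRingCat.of R)) := by
    rw [Category.comp_id]
    exact hρ.symm
  have hP := projective_condC K bs (h := h) c hc
  obtain ⟨p, hp⟩ : ∃ p, c p = s := by
    have : s ∈ Set.range c := by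
      rw [show Set.range c = V from hV.range_fromSpec]
      exact hs
    exact this
  let P := (J → B) ⧸ Lsub bs (trunc n (condC K h c))
  have : Module.FinitePresentation B P := Module.finitePresentation_of_projective B P
  let d := Module.rankAtStalk (R := B) P p
  let U₀ : (Spec (CommRingCat.of B)).Opens := ⟨{x | Module.rankAtStalk (R := B) P x = d},
    (Module.isLocallyConstant_rankAtStalk (R := B) (M := P)).isOpen_fiber d⟩
  have key : ∀ (k : Type u) [Field k] [Algebra R k] (ψ : B →ₐ[R] k), PrimeSpectrum.comap (ψ : B →+* k) ⊥ ∈ U₀ →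
      IsQuotRank d (Lsub bs (trunc n (condC K h (sp ψ.toRingHom ≫ c)))) := by
    intro k _ _ ψ hψ
    rw [Lsub_condC_bc K bs c hc]
    exact isQuotRank_bc_field hP _ hψ
  refine ⟨d, ?_, c ''ᵁ U₀, ⟨p, rfl, hp⟩, ?_⟩
  · have h1 := key p.asIdeal.ResidueField (IsScalarTower.toAlgHom R B p.asIdeal.ResidueField) (by
      have h2 : PrimeSpectrum.comap ((IsScalarTower.toAlgHom R B p.asIdeal.ResidueField : B →ₐ[R] _) :
          B →+* p.asIdeal.ResidueField) ⊥ = p := by
        apply PrimeSpectrum.ext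
        change (⊥ : Ideal p.asIdeal.ResidueField).comap (algebraMap B p.asIdeal.ResidueField) = p.asIdeal
        rw [← RingHom.ker_eq_comap_bot]
        exact Ideal.ker_algebraMap_residueField _
      rw [h2]
      rfl)
    exact isQuotRank_le h1
  · intro k _ _ c' hc'
    rw [condC_bcSub]
    have hr : Set.range (c' ≫ (c ''ᵁ U₀).ι) ⊆ c '' U₀ := by
      rintro _ ⟨x, rfl⟩
      exact (c' x).2
    let φ : Spec (CommRingCat.of k) ⟶ Spec (CommRingCat.of B) := IsOpenImmersion.lift c (c' ≫ (c ''ᵁ U₀).ι)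
      (hr.trans (Set.image_subset_range _ _))
    have hφ : φ ≫ c = c' ≫ (c ''ᵁ U₀).ι := IsOpenImmersion.lift_fac _ _ _
    obtain ⟨ψ, hψ⟩ := exists_sp φ
    have hcomm : ψ.comp (algebraMap R B) = algebraMap R k := by
      apply sp_injective
      rw [sp_comp, hψ]
      have h1 := congrArg (φ ≫ ·) hc
      simp only [Category.comp_id] at h1
      rw [← h1, ← Category.assoc, hφ, Category.assoc, hc', Category.comp_id]
    let ψ' : B →ₐ[R] k := { ψ with commutes' := fun r => DFunLike.congr_fun hcomm r }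
    have h2 := key k ψ' (by
      let z : Spec (CommRingCat.of k) := (⊥ : PrimeSpectrum k)
      obtain ⟨y, hy, hy'⟩ := hr ⟨z, rfl⟩
      have h3 : c (φ z) = c y := by
        rw [hy', ← hφ]
        rfl
      have h4 : φ z = y := c.isOpenEmbedding.injective h3
      rw [← h4, ← hψ] at hy
      exact hy)
    have h5 : sp ψ'.toRingHom ≫ c = c' ≫ (c ''ᵁ U₀).ι := by
      rw [← hφ, ← hψ]
    rw [h5] at h2
    exact h2

theorem RankF.unique {d' : ℕ} (hr : RankF K bs d h) (hr' : RankF K bs d' h) (hne : Nonempty S') : d = d' := by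
  obtain ⟨s⟩ := hne
  let k : Type u := S'.residueField s
  let c : Spec (CommRingCat.of k) ⟶ S' := S'.fromSpecResidueField s
  obtain ⟨ρ, hρ⟩ := exists_sp (c ≫ f)
  let _ : Algebra R k := ρ.toAlgebra
  have hc : c ≫ f = sp (algebraMap R k) ≫ 𝟙 (Spec (CommRingCat.of R)) := by
    rw [Category.comp_id]
    exact hρ.symm
  exact isQuotRank_unique (hr k c hc) (hr' k c hc)

end RankF

variable (𝒬 : SubClass G)

/-- **The class of members of rank `d`.** -/
def cls (d : ℕ) : SubClass G where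
  Q f _ _ h := 𝒬.Q f h ∧ RankF K bs d h
  isMonHom h := 𝒬.isMonHom h.1
  isClosedImmersion h := 𝒬.isClosedImmersion h.1
  of_iso {S' f H H' _ _ h h'} e he hh := by
    refine ⟨𝒬.of_iso e he hh.1, hh.2.congr fun X y a => ?_⟩
    have hw : e.hom.hom.hom.left ≫ H'.hom = H.hom := Over.w e.hom.hom.hom
    have hw' : e.inv.hom.hom.left ≫ H.hom = H'.hom := Over.w e.inv.hom.hom
    have he' : e.inv.hom.hom ≫ h = h' := by
      have h1 : e.inv.hom.hom ≫ e.hom.hom.hom = 𝟙 H' := congrArg (fun t => t.hom.hom) e.inv_hom_id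
      rw [← he, ← Category.assoc, h1, Category.id_comp]
    constructor
    · rintro ⟨p, h1, h2⟩
      refine ⟨p ≫ e.hom.hom.hom.left, ?_, ?_⟩
      · rw [Category.assoc, hw, h1]
      · rw [← h2, ← he, Over.comp_left]
        simp only [Category.assoc]
    · rintro ⟨p, h1, h2⟩
      refine ⟨p ≫ e.inv.hom.hom.left, ?_, ?_⟩
      · rw [Category.assoc, hw', h1]
      · rw [← h2, ← he', Over.comp_left]
        simp only [Category.assoc]
  bc q _ _ _ _ hh := ⟨𝒬.bc q hh.1, hh.2.bcSub q⟩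

theorem cls_Q_iff {d : ℕ} {S' : Scheme.{u}} {f : S' ⟶ Spec (CommRingCat.of R)} {H : Over S'} [GrpObj H]
    {h : H ⟶ Red.bc f G} : (cls K bs 𝒬 d).Q f h ↔ 𝒬.Q f h ∧ RankF K bs d h := Iff.rfl

theorem cls_isLocal [IsAffineHom G.hom] (hloc : 𝒬.IsLocal (fun {_ _ _} q => SubClass.EtCov q)) (d : ℕ) :
    (cls K bs 𝒬 d).IsLocal (fun {_ _ _} q => SubClass.EtCov q) := by
  intro S' f J' S'' q hq H _ h h1 h2 h3
  exact ⟨hloc f q hq h h1 h2 fun i => (h3 i).1, RankF.of_cover q hq.2 fun i => (h3 i).2⟩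

variable (hsm : ∀ {S' : Scheme.{u}} (f : S' ⟶ Spec (CommRingCat.of R)) {H : Over S'} [GrpObj H]
  (h : H ⟶ Red.bc f G), 𝒬.Q f h → Smooth H.hom)

include hsm in
theorem hasRank [IsAffineHom G.hom] (d : ℕ) {V : Scheme.{u}} (w : V ⟶ Spec (CommRingCat.of R)) :
    HasRank K (cls K bs 𝒬 d) bs w d := by
  intro T x B _ _ t
  obtain ⟨H, _, h, hQ, rfl⟩ := (cls K bs 𝒬 d).exists_ofSub x
  have hQ' : (cls K bs 𝒬 d).Q (((Over.map w).obj T).hom ≫ 𝟙 (Spec (CommRingCat.of R))) h := hQ
  have e := condX_ofSub K hQ' t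
  have := 𝒬.isMonHom hQ'.1
  have := 𝒬.isClosedImmersion hQ'.1
  have := hsm _ h hQ'.1
  have h1 : t.left ≫ ((Over.map w).obj T).hom ≫ 𝟙 (Spec (CommRingCat.of R)) =
      sp (algebraMap R B) ≫ 𝟙 (Spec (CommRingCat.of R)) := by
    have h2 : t.left ≫ ((Over.map w).obj T).hom = (SpecOver R B).hom := Over.w t
    rw [← Category.assoc, h2]
    rfl
  have h3 := hQ'.2.isQuotRank (B := B) t.left h1
  have h4 : Lsub bs (trunc n (condX K ((cls K bs 𝒬 d).ofSub hQ) t)) = Lsub bs (trunc n (condC K h t.left)) :=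
    congrArg (fun E => Lsub bs (trunc n E)) e
  rw [h4]
  exact h3

theorem cls_cj [IsAffineHom G.hom] (hcj : ∀ {S' : Scheme.{u}} (f : S' ⟶ Spec (CommRingCat.of R)) {H : Over S'}
    [GrpObj H] (h : H ⟶ Red.bc f G) (g₀ : Over.mk f ⟶ G), 𝒬.Q f h → 𝒬.Q f (h ≫ MT.cj g₀)) (d : ℕ)
    {S' : Scheme.{u}} (f : S' ⟶ Spec (CommRingCat.of R)) {H : Over S'}
    [GrpObj H] (h : H ⟶ Red.bc f G) (g₀ : Over.mk f ⟶ G) (hQ : (cls K bs 𝒬 d).Q f h) :
    (cls K bs 𝒬 d).Q f (h ≫ MT.cj g₀) := by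
  have := 𝒬.isClosedImmersion hQ.1
  exact ⟨hcj f h g₀ hQ.1, hQ.2.comp_cj g₀⟩

theorem cls_disj {d d' : ℕ} {S' : Scheme.{u}} {f : S' ⟶ Spec (CommRingCat.of R)} {H : Over S'}
    [GrpObj H] {h : H ⟶ Red.bc f G} (hQ : (cls K bs 𝒬 d).Q f h) (hQ' : (cls K bs 𝒬 d').Q f h)
    (hne : Nonempty S') : d = d' := hQ.2.unique hQ'.2 hne

include hsm in
theorem cls_cov [IsAffineHom G.hom] {S' : Scheme.{u}} {f : S' ⟶ Spec (CommRingCat.of R)} {H : Over S'}
    [GrpObj H] {h : H ⟶ Red.bc f G} (hQ : 𝒬.Q f h) (s : S') :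
    ∃ d ≤ Fintype.card J, ∃ U : S'.Opens, s ∈ U ∧ (cls K bs 𝒬 d).Q (U.ι ≫ f) (MT.bcSub U.ι h) := by
  have := 𝒬.isMonHom hQ
  have := 𝒬.isClosedImmersion hQ
  have := hsm _ h hQ
  obtain ⟨d, hd, U, hs, hU⟩ := exists_rank_at (K := K) (bs := bs) (h := h) s
  exact ⟨d, hd, U, hs, 𝒬.bc U.ι hQ, hU⟩

end Groth.Agent.RedSub.H654.RankClass
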