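import Groth.Agent.RedSub.H654.UnivPt
import Mathlib.LinearAlgebra.RootSystem.Finite.Nondegenerate
import Mathlib.LinearAlgebra.Matrix.ToLinearEquiv

/-!
# Characters killed by the coroots and the root lattice
-/

set_option autoImplicit false
universe u

namespace Groth.Agent.RedSub.H654.RootNN

open Groth.Agent.Sga3B Groth.Agent.Sga3B.Cell UnivPt CharTor

variable {idx M : Type} [Fintype idx] [AddCommGroup M] [Module.Free ℤ M]
    [Module.Finite ℤ M] {P : RootPairing idx ℤ M (Module.Dual ℤ M)} {b : P.Base}

/-- all coroots vanish on `NN b` -/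
lemma coroot_eq_zero {m : M} (hm : m ∈ NN b) (i : idx) : P.coroot i m = 0 := by
  have h1 : P.coroot i ∈ Submodule.span ℤ (P.coroot '' b.support) := b.coroot_mem_span_int i
  let ev : Module.Dual ℤ M →ₗ[ℤ] ℤ := Module.Dual.eval ℤ M m
  have h2 : Submodule.span ℤ (P.coroot '' b.support) ≤ LinearMap.ker ev := by
    rw [Submodule.span_le]
    rintro _ ⟨a, ha, rfl⟩
    exact hm a ha
  exact h2 h1

/-- `NN b` meets the root lattice trivially -/
theorem eq_zero_of_mem (hP : P.toLinearMap = Module.Dual.eval ℤ M) {m : M} (hm : m ∈ NN b)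
    (hs : m ∈ Submodule.span ℤ (Set.range P.root)) : m = 0 := by
  apply P.eq_zero_of_mem_rootSpan_of_rootForm_self_eq_zero hs
  rw [P.rootForm_apply_apply]
  apply Finset.sum_eq_zero
  intro i _
  have h1 : P.coroot' i m = 0 := by
    have h2 : P.coroot' i m = P.coroot i m := by
      change P.toLinearMap m (P.coroot i) = _
      rw [hP]
      rfl
    rw [h2]
    exact coroot_eq_zero hm i
  rw [h1, zero_mul]

/-- **Characters are, up to finite index, sums of roots and of characters killed by the coroots.** -/
theorem exists_zsmul (hP : P.toLinearMap = Module.Dual.eval ℤ M) (b : P.Base) : ∃ k : ℤ, k ≠ 0 ∧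
    ∀ m : M, ∃ β ∈ Submodule.span ℤ (Set.range P.root), k • m - β ∈ NN b := by
  classical
  let A : Matrix b.support b.support ℤ := fun a c => P.coroot a (P.root c)
  have hlin : ∀ v : b.support → ℤ, ∀ a : b.support,
      P.coroot a (∑ c : b.support, v c • P.root c) = (A.mulVec v) a := by
    intro v a
    rw [map_sum, Matrix.mulVec, dotProduct]
    apply Finset.sum_congr rfl
    intro c _
    rw [map_smul, smul_eq_mul, mul_comm]
  have hspan : ∀ v : b.support → ℤ, ∑ c : b.support, v c • P.root c ∈
      Submodule.span ℤ (Set.range P.root) := fun v =>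
    Submodule.sum_mem _ fun c _ => Submodule.smul_mem _ _ (Submodule.subset_span ⟨c, rfl⟩)
  refine ⟨A.det, ?_, fun m => ?_⟩
  · intro h0
    obtain ⟨v, hv, hv0⟩ := Matrix.exists_mulVec_eq_zero_iff.mpr h0
    apply hv
    have h1 : ∑ c : b.support, v c • P.root c = 0 := by
      apply eq_zero_of_mem (b := b) hP _ (hspan v)
      intro a ha
      rw [hlin v ⟨a, ha⟩, hv0]
      rfl
    have h2 : LinearIndependent ℤ (fun c : b.support => P.root c) := b.linearIndepOn_root
    funext c
    exact Fintype.linearIndependent_iff.mp h2 v h1 c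
  · let w : b.support → ℤ := A.adjugate.mulVec (corL b m)
    refine ⟨∑ c : b.support, w c • P.root c, hspan w, fun a ha => ?_⟩
    have h1 : A.mulVec w = A.det • corL b m := by
      change A.mulVec (A.adjugate.mulVec (corL b m)) = _
      rw [Matrix.mulVec_mulVec, Matrix.mul_adjugate, Matrix.smul_mulVec, Matrix.one_mulVec]
    have h2 := congrFun h1 ⟨a, ha⟩
    rw [map_sub, hlin w ⟨a, ha⟩, h2, map_smul, Pi.smul_apply, corL_apply, sub_self]

/-- simple roots and a basis of `NN b` are linearly independent -/
theorem linearIndependent_sum (hP : P.toLinearMap = Module.Dual.eval ℤ M) {κ : Type}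
    (c : Module.Basis κ ℤ (NN b)) :
    LinearIndependent ℤ (Sum.elim (fun k => ((c k : NN b) : M)) (fun a : b.support => P.root a)) := by
  refine LinearIndependent.sum_type ?_ b.linearIndepOn_root ?_
  · exact c.linearIndependent.map' (NN b).subtype (Submodule.ker_subtype _)
  · rw [Submodule.disjoint_def]
    intro x h1 h2
    apply eq_zero_of_mem (b := b) hP
    · have h3 : Submodule.span ℤ (Set.range fun k => ((c k : NN b) : M)) ≤ NN b := by
        rw [Submodule.span_le]
        rintro _ ⟨k, rfl⟩
        exact (c k).2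
      exact h3 h1
    · refine Submodule.span_mono ?_ h2
      rintro _ ⟨a, rfl⟩
      exact ⟨a, rfl⟩

/-- characters of `NN b` and values `1` on the simple roots can be realised over algebraically closed
fields -/
theorem exists_torus_point (hP : P.toLinearMap = Module.Dual.eval ℤ M) (b : P.Base) {K : Type u}
    [Field K] [IsAlgClosed K] (c : TPt (NN b) K) :
    ∃ t : TPt M K, pull (nu b) K t = c ∧ ∀ i : idx, TPt.ch (P.root i) t = 1 := by
  let e := Module.Free.chooseBasis ℤ (NN b)
  obtain ⟨T, _, _, hff, hfp, s, hs⟩ := TorusScale.exists_torusPoint (R := K) (M := M)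
    _ (linearIndependent_sum hP e)
    (Sum.elim (fun k => c (Multiplicative.ofAdd (e k))) (fun _ => 1))
  -- a rational point
  have hnt : Nontrivial T := by
    exact (FaithfulSMul.algebraMap_injective K T).nontrivial
  obtain ⟨φ⟩ : Nonempty (T →ₐ[K] K) := by
    obtain ⟨I, hI⟩ := Ideal.exists_maximal T
    let _ : Field (T ⧸ I) := Ideal.Quotient.field I
    have h1 : Algebra.FiniteType K T := inferInstance
    have h2 : Algebra.FiniteType K (T ⧸ I) := inferInstance
    have h3 : Module.Finite K (T ⧸ I) := finite_of_finite_type_of_isJacobsonRing K (T ⧸ I)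
    have h4 : Algebra.IsAlgebraic K (T ⧸ I) := Algebra.IsAlgebraic.of_finite K (T ⧸ I)
    have h5 := IsAlgClosed.algebraMap_bijective_of_isIntegral (k := K) (K := T ⧸ I)
    let e := AlgEquiv.ofBijective (Algebra.ofId K (T ⧸ I)) h5
    exact ⟨(e.symm : (T ⧸ I) →ₐ[K] K).comp (Ideal.Quotient.mkₐ K I)⟩
  let t : TPt M K := TPt.map φ s
  have ht : ∀ m : M, TPt.ch m t = φ (TPt.ch m s) := fun m => rfl
  refine ⟨t, ?_, ?_⟩
  · apply TPt.ext_ch
    intro n
    rw [ch_pull]
    -- compare two homomorphisms on `NN b`
    let ψ₁ : NN b →ₗ[ℤ] Additive Kˣ := ((tadd t).comp (nu b)).toIntLinearMap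
    let ψ₂ : NN b →ₗ[ℤ] Additive Kˣ := (tadd c).toIntLinearMap
    have h1 : ψ₁ = ψ₂ := by
      apply e.ext
      intro k
      apply Additive.toMul.injective
      ext
      change TPt.ch ((e k : NN b) : M) t = TPt.ch (e k) c
      have h5 : TPt.ch ((e k : NN b) : M) s =
          algebraMap K T ((c (Multiplicative.ofAdd (e k)) : Kˣ) : K) := hs (Sum.inl k)
      rw [ht, h5]
      exact φ.commutes _
    have h2 := LinearMap.congr_fun h1 n
    exact congrArg (fun z : Additive Kˣ => ((z.toMul : Kˣ) : K)) h2
  · -- values on the roots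
    have h1 : ∀ a : b.support, TPt.ch (P.root a) t = 1 := by
      intro a
      have h5 : TPt.ch (P.root a) s = algebraMap K T ((1 : Kˣ) : K) := hs (Sum.inr a)
      rw [ht, h5]
      exact (congrArg φ (map_one (algebraMap K T))).trans (map_one φ)
    intro i
    let ψ : M →ₗ[ℤ] Additive Kˣ := (tadd t).toIntLinearMap
    have h2 : Submodule.span ℤ (P.root '' b.support) ≤ LinearMap.ker ψ := by
      rw [Submodule.span_le]
      rintro _ ⟨a, ha, rfl⟩
      change ψ (P.root a) = 0
      apply Additive.toMul.injective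
      ext
      exact h1 ⟨a, ha⟩
    have h3 : P.root i ∈ Submodule.span ℤ (P.root '' b.support) := b.root_mem_span_int i
    have h4 : ψ (P.root i) = 0 := h2 h3
    exact congrArg (fun z : Additive Kˣ => ((z.toMul : Kˣ) : K)) h4

end Groth.Agent.RedSub.H654.RootNN
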