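import Groth.Agent.RedSub.H654.UnivPt
import Groth.Agent.Sga3B.PinModelOf
import Groth.Agent.Sga3B.BorSpan613

/-!
# Characters of a pinned group and homomorphisms to commutative groups, scheme form

* `exists_char` : for a pinned group `G` with torus `D_S(M)` and `ν : N →+ M` killed by the simple
  coroots there is a homomorphism `G ⟶ D_S(N)` extending `DSmap ν`.
* `eq_of_torus` : homomorphisms from `G` to a commutative group agree as soon as they agree on the
  torus.
-/

set_option autoImplicit false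
set_option linter.unusedSectionVars false
universe u

open CategoryTheory MonoidalCategory CartesianMonoidalCategory MonObj GrpObj AlgebraicGeometry

namespace Groth.Agent.RedSub.H654.SchemeChar

open Groth.Agent.Sga3B Groth.Agent.Sga3B.Cell Groth.Agent.Sga3B.PtDescent Groth.Agent.Sga3B.DSPts
open Groth.Agent.Sga3B.GaPts Groth.Agent.Sga3B.PinMod CharTor UnivPt

section points

variable {S : Scheme.{u}} {R : Type u} [CommRing R] (s : Spec (CommRingCat.of R) ⟶ S)
variable {B C : Type u} [CommRing B] [Algebra R B] [CommRing C] [Algebra R C]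
variable {M N : Type} [AddCommGroup M] [AddCommGroup N]

/-- the point of the torus `D_S(M)` over `Spec B` of a torus point -/
noncomputable def dP (t : TPt M B) : tB s B ⟶ Red.DS S M := dsEquiv (tB s B) M (chΓ s t)

lemma chΓ_mul (t t' : TPt M B) : chΓ s (t * t') = chΓ s t * chΓ s t' := by
  refine MonoidHom.ext fun m => ?_
  change (Scheme.ΓSpecIso (CommRingCat.of B)).inv.hom (((t * t') m : Bˣ) : B) =
    (Scheme.ΓSpecIso (CommRingCat.of B)).inv.hom ((t m : Bˣ) : B) *
      (Scheme.ΓSpecIso (CommRingCat.of B)).inv.hom ((t' m : Bˣ) : B)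
  rw [← map_mul]
  rfl

lemma dP_mul (t t' : TPt M B) : dP s (t * t') = dP s t * dP s t' := by
  rw [dP, chΓ_mul, map_mul]
  rfl

lemma chΓ_injective : Function.Injective (chΓ s : TPt M B → _) := by
  intro t t' h
  apply TPt.ext_ch
  intro m
  have h1 : (Scheme.ΓSpecIso (CommRingCat.of B)).inv.hom (TPt.ch m t) =
      (Scheme.ΓSpecIso (CommRingCat.of B)).inv.hom (TPt.ch m t') :=
    DFunLike.congr_fun h (Multiplicative.ofAdd m)
  have h2 : ∀ x : B, (Scheme.ΓSpecIso (CommRingCat.of B)).hom.hom
      ((Scheme.ΓSpecIso (CommRingCat.of B)).inv.hom x) = x := by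
    intro x
    change ((Scheme.ΓSpecIso (CommRingCat.of B)).inv ≫ (Scheme.ΓSpecIso (CommRingCat.of B)).hom) x = x
    rw [Iso.inv_hom_id]
    rfl
  rw [← h2 (TPt.ch m t), h1, h2]

lemma dP_injective : Function.Injective (dP s : TPt M B → _) := fun _ _ h =>
  chΓ_injective s ((dsEquiv (tB s B) M).injective h)

lemma dP_surjective : Function.Surjective (dP s : TPt M B → _) := fun x => by
  obtain ⟨t, ht⟩ := exists_chΓ s x
  exact ⟨t, ht.symm⟩

lemma dP_one : dP s (1 : TPt M B) = 1 := by
  have h : chΓ s (1 : TPt M B) = 1 := by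
    refine MonoidHom.ext fun m => ?_
    change (Scheme.ΓSpecIso (CommRingCat.of B)).inv.hom (((1 : TPt M B) m : Bˣ) : B) = 1
    exact map_one _
  rw [dP, h]
  exact map_one (dsEquiv (tB s B) M)

lemma dP_nat (φ : B →ₐ[R] C) (t : TPt M B) : tMap s φ ≫ dP s t = dP s (TPt.map φ t) := by
  rw [dP, dsEquiv_naturality]
  congr 1
  refine MonoidHom.ext fun m => ?_
  change (Spec.map (CommRingCat.ofHom (φ : B →+* C))).appTop.hom
      ((Scheme.ΓSpecIso (CommRingCat.of B)).inv.hom ((t m : Bˣ) : B)) =
    (Scheme.ΓSpecIso (CommRingCat.of C)).inv.hom (φ ((t m : Bˣ) : B))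
  have h := Scheme.ΓSpecIso_inv_naturality (CommRingCat.ofHom (φ : B →+* C))
  exact (congrArg (fun k => k.hom ((t m : Bˣ) : B)) h).symm

lemma dP_DSmap (ν : N →+ M) (t : TPt M B) : dP s t ≫ Red.DSmap S ν = dP s (pull ν B t) := by
  rw [dP, dsEquiv_DSmap]
  rfl

end points

variable {idx M : Type} [Fintype idx] [AddCommGroup M] [Module.Free ℤ M]
    [Module.Finite ℤ M] {P : RootPairing idx ℤ M (Module.Dual ℤ M)} {b : P.Base}
    {S : Scheme.{u}}

section local_

variable {G G' : Over S} [GrpObj G] [GrpObj G'] {j : Red.DS S M ⟶ G} {j' : Red.DS S M ⟶ G'}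
  {u : idx → (Red.Ga S ⟶ G)} {u' : idx → (Red.Ga S ⟶ G')}
  {R : Type u} [CommRing R] {s : Spec (CommRingCat.of R) ⟶ S}

/-- faithfully flat ring maps give epimorphisms over `S` -/
lemma epi_tMap (s : Spec (CommRingCat.of R) ⟶ S) {B T : Type u} [CommRing B] [Algebra R B]
    [CommRing T] [Algebra R T] [Algebra B T] [IsScalarTower R B T] [Module.FaithfullyFlat B T] :
    Epi (tMap s (IsScalarTower.toAlgHom R B T)) := by
  have h : Epi (tMap s (IsScalarTower.toAlgHom R B T)).left := by
    change Epi (Spec.map (CommRingCat.ofHom (algebraMap B T)))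
    have : Flat (Spec.map (CommRingCat.ofHom (algebraMap B T))) := by
      rw [Flat.SpecMap_iff]
      change (algebraMap B T).Flat
      rw [RingHom.flat_algebraMap_iff]
      infer_instance
    have : Surjective (Spec.map (CommRingCat.ofHom (algebraMap B T))) := by
      refine ⟨?_⟩
      exact PrimeSpectrum.comap_surjective_of_faithfullyFlat (A := B) (B := T)
    exact Flat.epi_of_flat_of_surjective _
  exact (Over.forget S).epi_of_epi_map h

/-- the points of a commutative group as a commutative group functor -/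
noncomputable def funOf (G' : Over S) [GrpObj G'] (hG' : ∀ (X : Over S) (x y : X ⟶ G'), x * y = y * x)
    (s : Spec (CommRingCat.of R) ⟶ S) : CommFun R where
  H B _ _ := tB s B ⟶ G'
  grp B _ _ := Hom.group
  comm B _ _ := hG' _
  map φ x := tMap s φ ≫ x
  sep {B T} _ _ _ _ _ _ _ := fun x y h => by
    have := epi_tMap s (B := B) (T := T)
    exact (cancel_epi (tMap s (IsScalarTower.toAlgHom R B T))).mp h

/-- the natural homomorphism of a local homomorphism to a commutative group -/
noncomputable def comOf (m : PinModel P b G j u s)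
    (hG' : ∀ (X : Over S) (x y : X ⟶ G'), x * y = y * x)
    (F : LocHom b G G' j j' u u' s) : CommHom (funOf G' hG' s) m.A where
  f B _ _ := MonoidHom.mk' (fun g => F.f (CommRingCat.of B) (CommRingCat.ofHom (algebraMap R B)) _ rfl
    (m.pts B g)) (fun g h => by rw [map_mul, F.mul]; rfl)
  nat {B C} _ _ _ _ φ g := by
    have h2 := F.nat (CommRingCat.of B) (CommRingCat.of C) (CommRingCat.ofHom (φ : B →+* C))
      (CommRingCat.ofHom (algebraMap R B)) (CommRingCat.ofHom (algebraMap R C))
      (by rw [← CommRingCat.ofHom_comp, AlgHom.comp_algebraMap]) _ _ rfl rfl (tMap s φ) rfl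
      (m.pts B g)
    rw [m.pts_nat] at h2
    exact h2.symm

/-- **Local homomorphisms to commutative groups agreeing on the torus are equal.** -/
theorem locHom_eq (m : PinModel P b G j u s)
    (hG' : ∀ (X : Over S) (x y : X ⟶ G'), x * y = y * x)
    (F F' : LocHom b G G' j j' u u' s) (B : CommRingCat.{u}) (ρ : CommRingCat.of R ⟶ B)
    (σ : Spec B ⟶ S) (hσ : Spec.map ρ ≫ s = σ) (g : Over.mk σ ⟶ G) :
    F.f B ρ σ hσ g = F'.f B ρ σ hσ g := by
  subst hσ
  let _ : Algebra R B := ρ.hom.toAlgebra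
  obtain ⟨p, hp⟩ := (m.pts B).surjective g
  subst hp
  refine f_ext m.E (comOf m hG' F) (comOf m hG' F') ?_ p
  intro C _ _ t
  change F.f (CommRingCat.of C) _ _ rfl (m.pts C (m.E.i C t)) =
    F'.f (CommRingCat.of C) _ _ rfl (m.pts C (m.E.i C t))
  rw [m.pts_i, F.torus, F'.torus]

end local_

section glue

variable {G G' : Over S} [GrpObj G] [GrpObj G'] {j : Red.DS S M ⟶ G} {j' : Red.DS S M ⟶ G'}
  {u : idx → (Red.Ga S ⟶ G)} {u' : idx → (Red.Ga S ⟶ G')}

/-- **Glueing local homomorphisms to a commutative group.** -/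
theorem exists_hom (hG' : ∀ (X : Over S) (x y : X ⟶ G'), x * y = y * x)
    (mod : ∀ (R : Type u) [CommRing R] (s : Spec (CommRingCat.of R) ⟶ S),
      Nonempty (PinModel P b G j u s))
    (hloc : ∀ (R : Type u) [CommRing R] (s : Spec (CommRingCat.of R) ⟶ S),
      Nonempty (LocHom b G G' j j' u u' s)) :
    ∃ f : G ⟶ G', IsMonHom f ∧ j ≫ f = j' ∧ ∀ a ∈ b.support, u a ≫ f = u' a := by
  have huniq : ∀ (R : Type u) [CommRing R] (s : Spec (CommRingCat.of R) ⟶ S)
      (F F' : LocHom b G G' j j' u u' s) (B : CommRingCat.{u})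
      (ρ : CommRingCat.of R ⟶ B) (σ : Spec B ⟶ S) (hσ : Spec.map ρ ≫ s = σ) (g : Over.mk σ ⟶ G),
      F.f B ρ σ hσ g = F'.f B ρ σ hσ g := by
    intro R _ s F F'
    obtain ⟨m⟩ := mod R s
    exact locHom_eq m hG' F F'
  let L : ∀ (R : CommRingCat.{u}) (s : Spec R ⟶ S),
      LocHom b G G' j j' u u' (R := R) s := fun R s => (hloc R s).some
  obtain ⟨f, hf, -⟩ := AffYoneda.existsUnique_hom (G := G) (G' := G')
    (fun R s g => (L R s).f R (𝟙 R) s (by rw [Spec.map_id, Category.id_comp]) g) (by
      intro R R' s s' h g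
      obtain ⟨χ, hχ⟩ : ∃ χ : R ⟶ R', Spec.map χ = h.left := ⟨Spec.preimage h.left, Spec.map_preimage _⟩
      have hs : Spec.map χ ≫ s = s' := by
        have := Over.w h
        simp only [Over.mk_hom] at this
        rw [hχ]; exact this
      have h1 := huniq R' s' (L R' s') ((L R s).restrict (R := R) (R' := R') χ hs) R' (𝟙 R') s'
        (by rw [Spec.map_id, Category.id_comp]) (h ≫ g)
      refine h1.trans ?_
      exact (L R s).nat R R' χ (𝟙 R) (χ ≫ 𝟙 R') (by rw [Category.comp_id, Category.id_comp]) s s'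
        _ _ h hχ.symm g)
  refine ⟨f, ?_, ?_, ?_⟩
  · apply isMonHom_of_affine
    intro R s g g'
    rw [hf, hf, hf]
    exact (L R s).mul _ _ _ _ _ _
  · apply AffYoneda.hom_ext
    intro R s x
    rw [← Category.assoc, hf]
    exact (L R s).torus _ _ _ _ _
  · intro a ha
    apply AffYoneda.hom_ext
    intro R s x
    rw [← Category.assoc, hf]
    exact (L R s).root a ha _ _ _ _ _

/-- homomorphisms to a commutative group agreeing on torus and simple root groups are equal -/
theorem hom_eq' (hG' : ∀ (X : Over S) (x y : X ⟶ G'), x * y = y * x)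
    (mod : ∀ (R : Type u) [CommRing R] (s : Spec (CommRingCat.of R) ⟶ S),
      Nonempty (PinModel P b G j u s))
    (f f' : G ⟶ G') [IsMonHom f] [IsMonHom f'] (hj : j ≫ f = j') (hj' : j ≫ f' = j')
    (hu : ∀ a ∈ b.support, u a ≫ f = u' a) (hu' : ∀ a ∈ b.support, u a ≫ f' = u' a) : f = f' := by
  apply AffYoneda.hom_ext
  intro R s g
  obtain ⟨m⟩ := mod R s
  exact locHom_eq m hG' (LocHom.ofHom s f hj hu) (LocHom.ofHom s f' hj' hu') R (𝟙 R) s
    (by rw [Spec.map_id, Category.id_comp]) g

end glue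

section char

variable {G : Over S} [GrpObj G] {j : Red.DS S M ⟶ G} {u : idx → (Red.Ga S ⟶ G)}
  {N : Type} [AddCommGroup N]

lemma ds_comm (S : Scheme.{u}) (N : Type) [AddCommGroup N] (X : Over S) (x y : X ⟶ Red.DS S N) :
    x * y = y * x := by
  apply (dsEquiv X N).symm.injective
  rw [map_mul, map_mul, mul_comm]

/-- the local character as a local homomorphism -/
theorem nonempty_locHom {R : Type u} [CommRing R] {s : Spec (CommRingCat.of R) ⟶ S}
    (m : PinModel P b G j u s) (ν : N →+ M) (hν : ∀ a ∈ b.support, ∀ n, P.coroot a (ν n) = 0) :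
    Nonempty (LocHom b G (Red.DS S N) j (Red.DSmap S ν) u (fun _ => 1) s) := by
  obtain ⟨χ, hnat, hcell⟩ := exists_char m.E ν hν
  have hi : ∀ {B : Type u} [CommRing B] [Algebra R B] (t : TPt M B), χ B (m.E.i B t) = pull ν B t := by
    intro B _ _ t
    have h := m.E.toDatum.cell_zero (B := B) (allList b) t
    rw [← hcell (fun _ => 0) t]
    congr 1
    exact h.symm
  have huu : ∀ (a : idx) {B : Type u} [CommRing B] [Algebra R B] (x : B),
      χ B (m.E.uu a B x) = 1 := by
    intro a B _ _ x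
    let H : CommFun R :=
      { H := fun B _ _ => TPt N B
        grp := fun B _ _ => inferInstance
        comm := fun B _ _ x y => mul_comm x y
        map := fun φ => TPt.map φ
        sep := fun {B T} _ _ _ _ _ _ _ t t' h => by
          apply TPt.ext_ch
          intro n
          apply FaithfulSMul.algebraMap_injective B T
          exact congrArg (TPt.ch n) h }
    exact f_uu m.E (H := H) ⟨fun B _ _ => χ B, fun φ g => (hnat φ g).symm⟩ a x
  refine ⟨{
    f := fun B ρ σ hσ g =>
      letI : Algebra R B := ρ.hom.toAlgebra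
      recast hσ (dP s (χ B ((m.pts B).symm (recast hσ.symm g))))
    nat := ?_
    mul := ?_
    torus := ?_
    root := ?_ }⟩
  · intro B C ψ ρ ρ' hρ σ τ hσ hτ h hh g
    subst hρ hσ hτ
    let _ : Algebra R B := ρ.hom.toAlgebra
    let _ : Algebra R C := (ρ ≫ ψ).hom.toAlgebra
    let ψ' : B →ₐ[R] C := { ψ.hom with commutes' := fun r => rfl }
    have hh' : h = tMap s ψ' := by
      ext1
      exact hh
    subst hh'
    change dP s (χ C ((m.pts C).symm (tMap s ψ' ≫ g))) =
      tMap s ψ' ≫ dP s (χ B ((m.pts B).symm g))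
    rw [dP_nat, ← hnat]
    congr 2
    apply (m.pts C).injective
    rw [MulEquiv.apply_symm_apply, ← m.pts_nat, MulEquiv.apply_symm_apply]
  · intro B ρ σ hσ g h
    subst hσ
    let _ : Algebra R B := ρ.hom.toAlgebra
    change dP s (χ B ((m.pts B).symm (g * h))) =
      dP s (χ B ((m.pts B).symm g)) * dP s (χ B ((m.pts B).symm h))
    rw [map_mul, map_mul, dP_mul]
  · intro B ρ σ hσ x
    subst hσ
    let _ : Algebra R B := ρ.hom.toAlgebra
    change dP s (χ B ((m.pts B).symm (x ≫ j))) = x ≫ Red.DSmap S ν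
    obtain ⟨t, ht⟩ := exists_chΓ s x
    rw [ht, ← m.pts_i, MulEquiv.symm_apply_apply, hi]
    exact (dP_DSmap s ν t).symm
  · intro a ha B ρ σ hσ x
    subst hσ
    let _ : Algebra R B := ρ.hom.toAlgebra
    change dP s (χ B ((m.pts B).symm (x ≫ u a))) = x ≫ (1 : Red.Ga S ⟶ Red.DS S N)
    obtain ⟨y, hy⟩ := exists_gaPt s x
    rw [hy, ← m.pts_uu a ha, MulEquiv.symm_apply_apply, huu, MonObj.comp_one]
    exact dP_one s

/-- **Characters of a pinned group.** -/
theorem exists_char_of_models (mod : ∀ (R : Type u) [CommRing R] (s : Spec (CommRingCat.of R) ⟶ S),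
      Nonempty (PinModel P b G j u s)) (ν : N →+ M)
    (hν : ∀ a ∈ b.support, ∀ n, P.coroot a (ν n) = 0) :
    ∃ q : G ⟶ Red.DS S N, IsMonHom q ∧ j ≫ q = Red.DSmap S ν := by
  obtain ⟨q, h1, h2, -⟩ := exists_hom (G' := Red.DS S N) (j' := Red.DSmap S ν)
    (u' := fun _ => 1) (ds_comm S N) mod (fun R _ s => by
      obtain ⟨m⟩ := mod R s
      exact nonempty_locHom m ν hν)
  exact ⟨q, h1, h2⟩

end char

end Groth.Agent.RedSub.H654.SchemeChar
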