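import Groth.Agent.RedSub.H646.InfPt
import Groth.Agent.Sga3A.SmoothSection
import Mathlib.LinearAlgebra.TensorProduct.RightExactness

/-!
# Infinitesimal neighbourhoods of the unit section in smooth subgroups are projective

`E : Cond R A B` represented by an ideal `I` of `B ⊗ A` with `(B ⊗ A) / I` smooth over `B`, such that the unit satisfies
`E`.  Then `(J → B) ⧸ Lsub bs (trunc n E)` is a projective `B`-module (`projective_quot_Lsub`).
-/

set_option autoImplicit false
universe u

open TensorProduct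
open Groth.Agent.Sga3B.Cell

namespace Groth.Agent.RedSub.H654.TruncProj

open Groth.Agent.RedSub.H646.StabIdeal Groth.Agent.RedSub.H646.DeltaRing Groth.Agent.RedSub.H646.InfPt

variable {R : Type u} [CommRing R] {A : Type u} [CommRing A] [Algebra R A] [PtGrp R A] {B : Type u} [CommRing B]
  [Algebra R B]

variable (R A B) in
/-- the unit section -/
def uu : B ⊗[R] A →ₐ[B] B :=
  Algebra.TensorProduct.lift (AlgHom.id B B) (1 : Pt R A B).hom (fun _ _ => Commute.all _ _)

theorem uu_tmul (b : B) (a : A) : uu R A B (b ⊗ₜ[R] a) = b * (1 : Pt R A B).hom a :=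
  Algebra.TensorProduct.lift_tmul _ _ _ _ _

theorem uu_apply (x : B ⊗[R] A) : uu R A B x = lft (AlgHom.id R B) (1 : Pt R A B).hom x := by
  induction x using TensorProduct.induction_on with
  | zero => rw [map_zero, map_zero]
  | tmul b a => rw [uu_tmul, Algebra.TensorProduct.lift_tmul]; rfl
  | add a b ha hb => rw [map_add, map_add, ha, hb]

variable (R A B) in
/-- the augmentation ideal of `B ⊗ A` -/
def augB : Ideal (B ⊗[R] A) := (aug R A).map (Algebra.TensorProduct.includeRight : A →ₐ[R] B ⊗[R] A)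

theorem ker_uu : RingHom.ker (uu R A B) = augB R A B := by
  apply le_antisymm
  · have key : ∀ x : B ⊗[R] A, x - (uu R A B x) ⊗ₜ[R] (1 : A) ∈ augB R A B := by
      intro x
      induction x using TensorProduct.induction_on with
      | zero => rw [map_zero, TensorProduct.zero_tmul, sub_zero]; exact Ideal.zero_mem _
      | tmul b a =>
        have h1 : a - algebraMap R A ((1 : Pt R A R).hom a) ∈ aug R A := by
          rw [aug, RingHom.mem_ker, map_sub]
          change (1 : Pt R A R).hom a - (1 : Pt R A R).hom (algebraMap R A ((1 : Pt R A R).hom a)) = 0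
          rw [AlgHom.commutes]
          exact sub_self _
        have h2 : (b ⊗ₜ[R] (1 : A)) * ((1 : B) ⊗ₜ[R] (a - algebraMap R A ((1 : Pt R A R).hom a))) ∈ augB R A B :=
          Ideal.mul_mem_left _ _ (Ideal.mem_map_of_mem _ h1)
        rw [Algebra.TensorProduct.tmul_mul_tmul, mul_one, one_mul, TensorProduct.tmul_sub] at h2
        rw [uu_tmul, one_hom_apply]
        have h3 : b ⊗ₜ[R] (algebraMap R A ((1 : Pt R A R).hom a)) =
            (b * algebraMap R B ((1 : Pt R A R).hom a)) ⊗ₜ[R] (1 : A) := by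
          rw [Algebra.algebraMap_eq_smul_one, ← TensorProduct.smul_tmul, Algebra.smul_def, mul_comm]
        rw [← h3]
        exact h2
      | add a b ha hb =>
        have h := Ideal.add_mem _ ha hb
        rw [map_add, TensorProduct.add_tmul]
        convert h using 1
        ring
    intro x hx
    have h := key x
    rw [RingHom.mem_ker.1 hx, TensorProduct.zero_tmul, sub_zero] at h
    exact h
  · rw [augB, Ideal.map_le_iff_le_comap]
    intro a ha
    rw [Ideal.mem_comap, RingHom.mem_ker]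
    change uu R A B (1 ⊗ₜ[R] a) = 0
    rw [uu_tmul, one_mul, one_hom_apply]
    have h1 : (1 : Pt R A R).hom a = 0 := ha
    rw [h1, map_zero]

section rep

variable {E : Cond R A B} {I : Ideal (B ⊗[R] A)} (hI : IsRep E I)
  (h1 : E B (AlgHom.id R B) (1 : Pt R A B).hom)

/-- the unit section of the subgroup -/
def eI : (B ⊗[R] A) ⧸ I →ₐ[B] B := Ideal.Quotient.liftₐ I (uu R A B) (fun x hx => by
  rw [uu_apply]
  exact (hI B _ _).1 h1 x hx)

theorem ker_eI : RingHom.ker (eI hI h1) = (augB R A B).map (Ideal.Quotient.mk I) := by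
  have hle : I ≤ RingHom.ker (uu R A B) := fun x hx => by
    rw [RingHom.mem_ker, uu_apply]
    exact (hI B _ _).1 h1 x hx
  rw [← ker_uu]
  apply le_antisymm
  · intro x hx
    obtain ⟨y, rfl⟩ := Ideal.Quotient.mk_surjective x
    exact Ideal.mem_map_of_mem _ hx
  · rw [Ideal.map_le_iff_le_comap]
    intro x hx
    exact hx

variable (R A B) in
/-- the truncation map -/
abbrev tr (n : ℕ) : B ⊗[R] A →ₐ[B] B ⊗[R] Wn R A n :=
  Algebra.TensorProduct.map (AlgHom.id B B) (Ideal.Quotient.mkₐ R (aug R A ^ (n + 1)))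

theorem tr_tmul (n : ℕ) (b : B) (a : A) : tr R A B n (b ⊗ₜ[R] a) = b ⊗ₜ[R] (Ideal.Quotient.mk _ a) := rfl

theorem tr_surjective (n : ℕ) : Function.Surjective (tr R A B n) := by
  intro x
  induction x using TensorProduct.induction_on with
  | zero => exact ⟨0, map_zero _⟩
  | tmul b a =>
    obtain ⟨a, rfl⟩ := Ideal.Quotient.mk_surjective a
    exact ⟨b ⊗ₜ[R] a, tr_tmul n b a⟩
  | add x y hx hy =>
    obtain ⟨x, rfl⟩ := hx
    obtain ⟨y, rfl⟩ := hy
    exact ⟨x + y, map_add _ _ _⟩

theorem ker_tr (n : ℕ) : RingHom.ker (tr R A B n) = augB R A B ^ (n + 1) := by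
  have h := Algebra.TensorProduct.lTensor_ker (A := B) (Ideal.Quotient.mkₐ R (aug R A ^ (n + 1)))
    Ideal.Quotient.mk_surjective
  rw [augB, ← Ideal.map_pow]
  refine Eq.trans ?_ (h.trans ?_)
  · rfl
  · congr 1
    exact Ideal.Quotient.mkₐ_ker R _

/-- The coordinate ring of the truncation. -/
theorem nonempty_equiv (n : ℕ) : Nonempty ((((B ⊗[R] A) ⧸ I) ⧸ RingHom.ker (eI hI h1) ^ (n + 1)) ≃ₗ[B]
    ((B ⊗[R] Wn R A n) ⧸ I.map (Algebra.TensorProduct.map (AlgHom.id R B)
      (Ideal.Quotient.mkₐ R (aug R A ^ (n + 1)))))) := by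
  let K₁ := RingHom.ker (eI hI h1) ^ (n + 1)
  let K₂ := I.map (Algebra.TensorProduct.map (AlgHom.id R B) (Ideal.Quotient.mkₐ R (aug R A ^ (n + 1))))
  let p₁ : B ⊗[R] A →ₐ[B] ((B ⊗[R] A) ⧸ I) ⧸ K₁ := (Ideal.Quotient.mkₐ B K₁).comp (Ideal.Quotient.mkₐ B I)
  let p₂ : B ⊗[R] A →ₐ[B] (B ⊗[R] Wn R A n) ⧸ K₂ := (Ideal.Quotient.mkₐ B K₂).comp (tr R A B n)
  have hp₁ : Function.Surjective p₁ := Ideal.Quotient.mk_surjective.comp Ideal.Quotient.mk_surjective
  have hp₂ : Function.Surjective p₂ := Ideal.Quotient.mk_surjective.comp (tr_surjective n)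
  have hk₁ : RingHom.ker p₁ = augB R A B ^ (n + 1) ⊔ I := by
    have e1 : RingHom.ker p₁ = K₁.comap (Ideal.Quotient.mk I) := by
      ext x
      exact Ideal.Quotient.eq_zero_iff_mem
    rw [e1]
    change (RingHom.ker (eI hI h1) ^ (n + 1)).comap (Ideal.Quotient.mk I) = _
    rw [ker_eI, ← Ideal.map_pow, Ideal.comap_map_of_surjective' _ Ideal.Quotient.mk_surjective, Ideal.mk_ker]
  have hk₂ : RingHom.ker p₂ = augB R A B ^ (n + 1) ⊔ I := by
    have e1 : RingHom.ker p₂ = K₂.comap (tr R A B n) := by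
      ext x
      exact Ideal.Quotient.eq_zero_iff_mem
    rw [e1]
    have e2 : K₂ = I.map (tr R A B n) := rfl
    rw [e2, Ideal.comap_map_of_surjective' (tr R A B n) (tr_surjective n), ker_tr, sup_comm]
  let q₁ := Ideal.quotientKerAlgEquivOfSurjective hp₁
  let q₂ := Ideal.quotientKerAlgEquivOfSurjective hp₂
  exact ⟨q₁.symm.toLinearEquiv.trans
    ((Ideal.quotientEquivAlgOfEq B (hk₁.trans hk₂.symm)).toLinearEquiv.trans q₂.toLinearEquiv)⟩

include hI h1 in
/-- **The infinitesimal neighbourhoods of the unit section are projective.** -/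
theorem projective_quot_Lsub [Algebra.Smooth B ((B ⊗[R] A) ⧸ I)] {n : ℕ} {J : Type} [Fintype J]
    (bs : Gen J R (Wn R A n)) : Module.Projective B ((J → B) ⧸ Lsub bs (trunc n E)) := by
  obtain ⟨e⟩ := nonempty_equiv hI h1 n
  have h2 : Module.Projective B (((B ⊗[R] A) ⧸ I) ⧸ RingHom.ker (eI hI h1) ^ (n + 1)) :=
    Groth.Agent.Sga3A.SmoothSection.projective_quotient_pow (eI hI h1) n
  exact Module.Projective.of_equiv (e.trans (quotEquiv (bs := bs) (IsRep.trunc hI n)).symm)

end rep

end Groth.Agent.RedSub.H654.TruncProj
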