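import Groth.Agent.RedSub.H654.CharTor
import Groth.Agent.Sga3B.TorusScale
import Mathlib.LinearAlgebra.FreeModule.PID

/-!
# The universal property of the coradical, functor-of-points form

`E : PinCell P b R A` and `χ` the homomorphism to `D(N)`, `N` the characters killed by the simple
coroots.  Every natural homomorphism from `Pt R A` to a commutative group functor which is separated
for faithfully flat extensions is trivial on the kernel of `χ`.
-/

set_option autoImplicit false
set_option linter.unusedSectionVars false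
universe u v

namespace Groth.Agent.RedSub.H654.UnivPt

open Groth.Agent.Sga3B Groth.Agent.Sga3B.Cell Groth.Agent.Sga3B.Word Groth.Agent.Sga3B.PtDescent
open CharTor TensorProduct

variable {idx M : Type} [Fintype idx] [AddCommGroup M] [Module.Free ℤ M]
    [Module.Finite ℤ M] {P : RootPairing idx ℤ M (Module.Dual ℤ M)} {b : P.Base}
    {R A : Type u} [CommRing R] [CommRing A] [Algebra R A] [PtGrp R A]

/-- every point is, after a faithfully flat extension, a product of two points of the cell -/
theorem exists_cell_cover (E : PinCell P b R A) {B : Type u} [CommRing B] [Algebra R B]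
    (g : Pt R A B) :
    ∃ (T : Type u) (_ : CommRing T) (_ : Algebra R T) (_ : Algebra B T) (_ : IsScalarTower R B T)
      (_ : Module.FaithfullyFlat B T) (x : idx → T) (t : TPt M T) (x' : idx → T) (t' : TPt M T),
      Pt.map (IsScalarTower.toAlgHom R B T) g = E.cell x t * E.cell x' t' := by
  obtain ⟨T, _, _, _, _, _, x, t, x', t', hw⟩ := PinCover.exists_cover E
  let _ : Algebra A B := (g.hom : A →+* B).toAlgebra
  have : IsScalarTower R A B := IsScalarTower.of_algebraMap_eq fun r => (g.hom.commutes r).symm
  let _ : Algebra R (B ⊗[A] T) := inferInstance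
  have : IsScalarTower R B (B ⊗[A] T) := inferInstance
  let ι : T →ₐ[R] B ⊗[A] T :=
    (Algebra.TensorProduct.includeRight : T →ₐ[A] B ⊗[A] T).restrictScalars R
  refine ⟨B ⊗[A] T, inferInstance, inferInstance, inferInstance, inferInstance, inferInstance,
    fun a => ι (x a), TPt.map ι t, fun a => ι (x' a), TPt.map ι t', ?_⟩
  rw [← E.cell_nat, ← E.cell_nat, ← Pt.map_mul, ← hw]
  apply Pt.ext
  intro a
  change (algebraMap A B a) ⊗ₜ[A] (1 : T) = (1 : B) ⊗ₜ[A] (algebraMap A T a)
  rw [Algebra.algebraMap_eq_smul_one, Algebra.algebraMap_eq_smul_one, TensorProduct.tmul_smul,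
    TensorProduct.smul_tmul']

/-- A commutative group functor on `R`-algebras, separated for faithfully flat extensions. -/
structure CommFun (R : Type u) [CommRing R] where
  H : ∀ (B : Type u) [CommRing B] [Algebra R B], Type u
  [grp : ∀ (B : Type u) [CommRing B] [Algebra R B], Group (H B)]
  comm : ∀ (B : Type u) [CommRing B] [Algebra R B] (x y : H B), x * y = y * x
  map : ∀ {B C : Type u} [CommRing B] [Algebra R B] [CommRing C] [Algebra R C] (_ : B →ₐ[R] C),
    H B → H C
  sep : ∀ {B T : Type u} [CommRing B] [Algebra R B] [CommRing T] [Algebra R T] [Algebra B T]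
    [IsScalarTower R B T] [Module.FaithfullyFlat B T],
    Function.Injective (map (IsScalarTower.toAlgHom R B T))

attribute [instance] CommFun.grp

/-- A natural homomorphism from the points of `A` to a commutative group functor. -/
structure CommHom (H : CommFun R) (A : Type u) [CommRing A] [Algebra R A] [PtGrp R A] where
  f : ∀ (B : Type u) [CommRing B] [Algebra R B], Pt R A B →* H.H B
  nat : ∀ {B C : Type u} [CommRing B] [Algebra R B] [CommRing C] [Algebra R C] (φ : B →ₐ[R] C)
    (g : Pt R A B), H.map φ (f B g) = f C (Pt.map φ g)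

namespace CommHom

variable {H : CommFun R} (F : CommHom H A)

include F in
lemma map_one {B C : Type u} [CommRing B] [Algebra R B] [CommRing C] [Algebra R C]
    (φ : B →ₐ[R] C) : H.map φ (1 : H.H B) = 1 := by
  have h := F.nat φ (1 : Pt R A B)
  rwa [Pt.map_one, _root_.map_one, _root_.map_one] at h

lemma eq_one_of_ff {B T : Type u} [CommRing B] [Algebra R B] [CommRing T] [Algebra R T] [Algebra B T]
    [IsScalarTower R B T] [Module.FaithfullyFlat B T] {g : Pt R A B}
    (h : F.f T (Pt.map (IsScalarTower.toAlgHom R B T) g) = 1) : F.f B g = 1 := by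
  apply H.sep (T := T)
  rw [F.nat, h, F.map_one]

lemma eq_of_ff (F' : CommHom H A) {B T : Type u} [CommRing B] [Algebra R B] [CommRing T]
    [Algebra R T] [Algebra B T]
    [IsScalarTower R B T] [Module.FaithfullyFlat B T] {g : Pt R A B}
    (h : F.f T (Pt.map (IsScalarTower.toAlgHom R B T) g) =
      F'.f T (Pt.map (IsScalarTower.toAlgHom R B T) g)) : F.f B g = F'.f B g := by
  apply H.sep (T := T)
  rw [F.nat, h, F'.nat]

end CommHom

section

variable (E : PinCell P b R A) {H : CommFun R} (F : CommHom H A)

/-- a faithfully flat extension containing a unit `v` with `v - 1` a unit -/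
lemma exists_unit_sub_one (B : Type u) [CommRing B] [Nontrivial B] :
    ∃ (T : Type u) (_ : CommRing T) (_ : Algebra B T), Module.FaithfullyFlat B T ∧
      ∃ v w : Tˣ, (v : T) - 1 = w := by
  let g : Polynomial B := Polynomial.X ^ 2 - (Polynomial.X - 1)
  have hg : g.Monic := by
    apply Polynomial.monic_X_pow_sub
    have : ((Polynomial.X : Polynomial B) - 1).degree = 1 := by
      have := Polynomial.degree_X_sub_C (1 : B)
      rwa [Polynomial.C_1] at this
    rw [this]
    norm_num
  have hdeg : g.natDegree = 2 := by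
    have h1 : ((Polynomial.X : Polynomial B) - 1).natDegree < (Polynomial.X ^ 2 : Polynomial B).natDegree := by
      have h2 := Polynomial.natDegree_X_sub_C (1 : B)
      rw [Polynomial.C_1] at h2
      rw [h2, Polynomial.natDegree_X_pow]
      norm_num
    rw [Polynomial.natDegree_sub_eq_left_of_natDegree_lt h1, Polynomial.natDegree_X_pow]
  have : Module.Free B (AdjoinRoot g) := hg.free_adjoinRoot
  have hnt : Nontrivial (AdjoinRoot g) := by
    refine ⟨(AdjoinRoot.powerBasis' hg).basis ⟨0, ?_⟩, 0, Module.Basis.ne_zero _ _⟩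
    rw [AdjoinRoot.powerBasis'_dim, hdeg]
    omega
  refine ⟨AdjoinRoot g, inferInstance, inferInstance, inferInstance, ?_⟩
  have h1 : (AdjoinRoot.root g) ^ 2 - (AdjoinRoot.root g - 1) = 0 := by
    have h2 := AdjoinRoot.eval₂_root g
    simpa [g] using h2
  have h2 : AdjoinRoot.root g * (1 - AdjoinRoot.root g) = 1 := by linear_combination -h1
  have h3 : (AdjoinRoot.root g - 1) * (- AdjoinRoot.root g) = 1 := by linear_combination -h1
  exact ⟨Units.mkOfMulEqOne _ _ h2, Units.mkOfMulEqOne _ _ h3, rfl⟩

/-- **root groups are killed** -/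
theorem f_uu (c : idx) {B : Type u} [CommRing B] [Algebra R B] (x : B) :
    F.f B (E.uu c B x) = 1 := by
  rcases subsingleton_or_nontrivial B with hB | hB
  · rw [Subsingleton.elim x 0, E.uu_zero, map_one]
  obtain ⟨B₁, _, _, hff, v, w, hvw⟩ := exists_unit_sub_one B
  obtain ⟨B₂, _, _, hff', -, t, ht⟩ := TorusScale.exists_torusPoint (R := B₁) (M := M)
    (κ := Unit) (fun _ => P.root c) (linearIndependent_unique_iff.mpr (P.ne_zero c))
    (fun _ => v)
  have ht := ht ()
  let _ : Algebra B B₂ := ((algebraMap B₁ B₂).comp (algebraMap B B₁)).toAlgebra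
  have : IsScalarTower B B₁ B₂ := IsScalarTower.of_algebraMap_eq fun r => rfl
  have : Module.FaithfullyFlat B B₂ := Module.FaithfullyFlat.trans B B₁ B₂
  let _ : Algebra R B₂ := ((algebraMap B B₂).comp (algebraMap R B)).toAlgebra
  have : IsScalarTower R B B₂ := IsScalarTower.of_algebraMap_eq fun r => rfl
  apply F.eq_one_of_ff (T := B₂)
  rw [E.uu_nat]
  set x' : B₂ := IsScalarTower.toAlgHom R B B₂ x with hx'
  have hw : TPt.ch (P.root c) t - 1 = algebraMap B₁ B₂ (w : B₁) := by
    rw [ht, ← hvw, map_sub, map_one]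
  let y : B₂ := algebraMap B₁ B₂ ((w⁻¹ : B₁ˣ) : B₁) * x'
  have hy : x' = TPt.ch (P.root c) t * y + -y := by
    have h1 : algebraMap B₁ B₂ (w : B₁) * algebraMap B₁ B₂ ((w⁻¹ : B₁ˣ) : B₁) = 1 := by
      rw [← map_mul, Units.mul_inv, map_one]
    have h2 : x' = (TPt.ch (P.root c) t - 1) * y := by
      rw [hw, ← mul_assoc, h1, one_mul]
    rw [h2]
    ring
  rw [hy, E.uu_add, E.uu_neg, ← E.rel, map_mul, map_mul, map_mul, map_inv, map_inv,
    H.comm B₂ (F.f B₂ (E.i B₂ t)) (F.f B₂ (E.uu c B₂ y)), mul_inv_cancel_right, mul_inv_cancel]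

lemma f_cell {B : Type u} [CommRing B] [Algebra R B] (x : idx → B) (t : TPt M B) :
    F.f B (E.cell x t) = F.f B (E.i B t) := by
  rw [PinCell.cell, map_mul, map_list_prod]
  have : (List.map (⇑(F.f B)) (List.map (fun a => E.uu a B (x a)) (allList b))).prod = 1 := by
    apply List.prod_eq_one
    intro y hy
    rw [List.map_map] at hy
    obtain ⟨a, -, rfl⟩ := List.mem_map.mp hy
    exact f_uu E F a _
  rw [this, one_mul]

/-- **Natural homomorphisms to a commutative group functor are determined by their restriction to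
the torus.** -/
theorem f_ext (F' : CommHom H A) (h : ∀ {B : Type u} [CommRing B] [Algebra R B] (t : TPt M B),
    F.f B (E.i B t) = F'.f B (E.i B t)) {B : Type u} [CommRing B] [Algebra R B] (g : Pt R A B) :
    F.f B g = F'.f B g := by
  obtain ⟨T, _, _, _, _, hff, x, t, x', t', hc⟩ := exists_cell_cover E g
  apply F.eq_of_ff F' (T := T)
  rw [hc, map_mul, map_mul, f_cell, f_cell, f_cell, f_cell, h, h]

/-- **simple coroots are killed** -/
theorem f_cow {a : idx} (ha : a ∈ b.support) {B : Type u} [CommRing B] [Algebra R B] (v : Bˣ) :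
    F.f B (E.i B (TPt.cow (P.coroot a) v)) = 1 := by
  have h1 := E.rank1 a ha (1 : B) ((v : B) - 1) v (by ring)
  have h2 := congrArg (F.f B) h1
  rw [map_mul, map_mul, map_mul, f_uu, f_uu, f_uu, f_uu, one_mul, one_mul, mul_one] at h2
  exact h2.symm

end

section NN

/-- the characters killed by the simple coroots -/
def NN (b : P.Base) : Submodule ℤ M where
  carrier := {m | ∀ a ∈ b.support, P.coroot a m = 0}
  add_mem' {x y} hx hy a ha := by rw [map_add, hx a ha, hy a ha, add_zero]
  zero_mem' a _ := map_zero _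
  smul_mem' z x hx a ha := by rw [map_smul, hx a ha, smul_zero]

lemma mem_NN {m : M} : m ∈ NN b ↔ ∀ a ∈ b.support, P.coroot a m = 0 := Iff.rfl

/-- the inclusion of `NN` -/
def nu (b : P.Base) : NN b →+ M := (NN b).subtype.toAddMonoidHom

@[simp] lemma nu_apply (n : NN b) : nu b n = n := rfl

lemma coroot_nu (a : idx) (ha : a ∈ b.support) (n : NN b) : P.coroot a (nu b n) = 0 := n.2 a ha

/-- the simple coroots as a linear map -/
def corL (b : P.Base) : M →ₗ[ℤ] (b.support → ℤ) := LinearMap.pi fun a => (P.coroot a : M →ₗ[ℤ] ℤ)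

lemma corL_apply (m : M) (a : b.support) : corL b m a = P.coroot a m := rfl

lemma corL_eq_zero_iff (m : M) : corL b m = 0 ↔ m ∈ NN b := by
  constructor
  · intro h a ha
    exact congrFun h ⟨a, ha⟩
  · intro h
    funext a
    exact h a a.2

/-- a torus point as an additive homomorphism -/
def tadd {B : Type u} [CommRing B] {M' : Type*} [AddCommGroup M'] (t : Multiplicative M' →* Bˣ) :
    M' →+ Additive Bˣ where
  toFun m := Additive.ofMul (t (Multiplicative.ofAdd m))
  map_zero' := t.map_one
  map_add' x y := t.map_mul (Multiplicative.ofAdd x) (Multiplicative.ofAdd y)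

/-- a torus point trivial on `NN` is, after a faithfully flat extension, a product of values of
simple coroots -/
theorem exists_prod_cow {B : Type u} [CommRing B] (t : TPt M B) (ht : pull (nu b) B t = 1) :
    ∃ (T : Type u) (_ : CommRing T) (_ : Algebra B T) (_ : Module.FaithfullyFlat B T)
      (v : b.support → Tˣ), TPt.map (Algebra.ofId B T) t =
        ∏ a : b.support, TPt.cow (P.coroot a) (v a) := by
  classical
  let I := LinearMap.range (corL b)
  let c := Module.Free.chooseBasis ℤ I
  have hc : ∀ k, ∃ m : M, corL b m = c k := fun k => (c k).2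
  choose m hm using hc
  have hli : LinearIndependent ℤ (fun k => ((c k : I) : b.support → ℤ)) :=
    c.linearIndependent.map' I.subtype (Submodule.ker_subtype I)
  obtain ⟨T, _, _, hff, -, s, hs⟩ := TorusScale.exists_torusPoint (R := B)
    (fun k => ((c k : I) : b.support → ℤ)) hli (fun k => t (Multiplicative.ofAdd (m k)))
  refine ⟨T, inferInstance, inferInstance, hff,
    fun a => s (Multiplicative.ofAdd (Pi.single a 1)), ?_⟩
  -- values of `s` on the image of `corL`
  have h1 : ∀ x : M, TPt.ch (corL b x) s = algebraMap B T (TPt.ch x t) := by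
    intro x
    let ψ₁ : M →ₗ[ℤ] Additive Tˣ :=
      ((tadd s).comp (corL b).toAddMonoidHom).toIntLinearMap
    let ψ₂ : M →ₗ[ℤ] Additive Tˣ :=
      (tadd (TPt.map (Algebra.ofId B T) t)).toIntLinearMap
    have e1 : ∀ y, (((ψ₁ y).toMul : Tˣ) : T) = TPt.ch (corL b y) s := fun y => rfl
    have e2 : ∀ y, (((ψ₂ y).toMul : Tˣ) : T) = algebraMap B T (TPt.ch y t) := fun y => rfl
    have hN1 : ∀ y ∈ NN b, ψ₁ y = 0 := by
      intro y hy
      apply Additive.toMul.injective
      ext
      rw [e1, (corL_eq_zero_iff y).mpr hy]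
      exact TPt.ch_zero s
    have hN2 : ∀ y ∈ NN b, ψ₂ y = 0 := by
      intro y hy
      apply Additive.toMul.injective
      ext
      rw [e2]
      have h3 : TPt.ch (⟨y, hy⟩ : NN b) (pull (nu b) B t) = 1 := by rw [ht]; rfl
      have h4 : TPt.ch y t = 1 := h3
      rw [h4, map_one]
      rfl
    have hk : ∀ k, ψ₁ (m k) = ψ₂ (m k) := by
      intro k
      apply Additive.toMul.injective
      ext
      rw [e1, e2, hm k, hs k]
      rfl
    have key : ψ₁ x = ψ₂ x := by
      let y : I := ⟨corL b x, x, rfl⟩
      let x' : M := ∑ k, c.repr y k • m k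
      have hx' : corL b x' = corL b x := by
        have h5 : (∑ k, c.repr y k • c k : I) = y := c.sum_repr y
        have h6 := congrArg (Subtype.val) h5
        rw [Submodule.coe_sum] at h6
        rw [map_sum]
        refine Eq.trans ?_ h6
        apply Finset.sum_congr rfl
        intro k _
        rw [map_smul, hm k]
        rfl
      have hd : x - x' ∈ NN b := by
        rw [← corL_eq_zero_iff, map_sub, hx', sub_self]
      have h7 : ψ₁ x' = ψ₂ x' := by
        rw [map_sum, map_sum]
        apply Finset.sum_congr rfl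
        intro k _
        rw [map_smul, map_smul, hk k]
      have h8 : x = (x - x') + x' := (sub_add_cancel x x').symm
      rw [h8, map_add, map_add, hN1 _ hd, hN2 _ hd, h7]
    rw [← e1, ← e2, key]
  apply TPt.ext_ch
  intro x
  have h2 : TPt.ch x (TPt.map (Algebra.ofId B T) t) = algebraMap B T (TPt.ch x t) := rfl
  rw [h2, ← h1]
  -- both sides are values at `corL b x`
  have h3 : corL b x = ∑ a : b.support, (corL b x a) • (Pi.single a (1 : ℤ) : b.support → ℤ) := by
    funext a'
    rw [Finset.sum_apply]
    simp [Pi.single_apply]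
  have h4 : s (Multiplicative.ofAdd (corL b x)) = ∏ a : b.support,
      (s (Multiplicative.ofAdd (Pi.single a 1))) ^ (P.coroot a x) := by
    conv_lhs => rw [h3, ofAdd_sum, map_prod]
    apply Finset.prod_congr rfl
    intro a _
    rw [ofAdd_zsmul, map_zpow]
    rfl
  have h5 : (∏ a : b.support, TPt.cow (P.coroot a) (s (Multiplicative.ofAdd (Pi.single a 1))) :
      TPt M T) (Multiplicative.ofAdd x) = ∏ a : b.support,
      (s (Multiplicative.ofAdd (Pi.single a 1))) ^ (P.coroot a x) := by
    rw [MonoidHom.finsetProd_apply]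
    rfl
  change ((s (Multiplicative.ofAdd (corL b x)) : Tˣ) : T) = (((∏ a : b.support,
    TPt.cow (P.coroot a) (s (Multiplicative.ofAdd (Pi.single a 1))) :
      TPt M T) (Multiplicative.ofAdd x) : Tˣ) : T)
  rw [h4, h5]

end NN

section univ

variable (E : PinCell P b R A) {H : CommFun R} (F : CommHom H A)

/-- **torus points trivial on `NN` are killed** -/
theorem f_i {B : Type u} [CommRing B] [Algebra R B] (t : TPt M B) (ht : pull (nu b) B t = 1) :
    F.f B (E.i B t) = 1 := by
  obtain ⟨T, _, _, hff, v, hv⟩ := exists_prod_cow t ht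
  let _ : Algebra R T := ((algebraMap B T).comp (algebraMap R B)).toAlgebra
  have : IsScalarTower R B T := IsScalarTower.of_algebraMap_eq fun r => rfl
  apply F.eq_one_of_ff (T := T)
  rw [E.i_nat]
  have h1 : TPt.map (IsScalarTower.toAlgHom R B T) t = TPt.map (Algebra.ofId B T) t := rfl
  rw [h1, hv]
  let ψ : TPt M T →* H.H T := (F.f T).comp (E.i T)
  have h2 : (∏ a : b.support, TPt.cow (P.coroot a) (v a) : TPt M T) ∈ ψ.ker := by
    apply Subgroup.prod_mem
    intro a _
    exact f_cow E F a.2 (v a)
  exact h2

/-- **Universal property, functor-of-points form.** -/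
theorem f_eq_one (χ : ∀ (B : Type u) [CommRing B] [Algebra R B], Pt R A B →* TPt (NN b) B)
    (hχ : ∀ {B C : Type u} [CommRing B] [Algebra R B] [CommRing C] [Algebra R C] (φ : B →ₐ[R] C)
        (g : Pt R A B), χ C (Pt.map φ g) = TPt.map φ (χ B g))
    (hcell : ∀ {B : Type u} [CommRing B] [Algebra R B] (x : idx → B) (t : TPt M B),
        χ B (E.cell x t) = pull (nu b) B t)
    {B : Type u} [CommRing B] [Algebra R B] (g : Pt R A B) (hg : χ B g = 1) : F.f B g = 1 := by
  obtain ⟨T, _, _, _, _, hff, x, t, x', t', hc⟩ := exists_cell_cover E g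
  apply F.eq_one_of_ff (T := T)
  have h1 : χ T (Pt.map (IsScalarTower.toAlgHom R B T) g) = 1 := by
    rw [hχ, hg, map_one]
  rw [hc, map_mul, hcell, hcell, ← map_mul] at h1
  rw [hc, map_mul, f_cell, f_cell, ← map_mul, ← map_mul]
  exact f_i E F _ h1

end univ

end Groth.Agent.RedSub.H654.UnivPt
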